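import Cfsg.Agent.H153.ZerosON
import Cfsg.Agent.H921.SporON
import Cfsg.Agent.H634.HypS
import Cfsg.Agent.H634.ElPSU_m3
import Cfsg.Agent.H634.Fus
import Cfsg.Prelude.Def_Classical
import Cfsg.Agent.H42.Tw.F4Three
import Cfsg.Agent.H934.HeisE6_m3
import Cfsg.Agent.H634.ElLoc
import Cfsg.Agent.H341.ThreeList_m3
import Cfsg.Agent.OddHalf.SpTwo.EndCOP_m3
import Cfsg.Agent.RuLat.Main
import Cfsg.Agent.H502.ThFiveP
import Cfsg.Agent.H573.Spor.CoOneFive
import Cfsg.Agent.H573.Spor.LyFive_m3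
import Cfsg.Agent.H573.Spor.BFive
import Cfsg.Agent.H573.Spor.ONSeven
import Cfsg.Agent.Lib.ListFast
import Cfsg.Agent.FastGrp
import Cfsg.Agent.Prune
set_option linter.all false

section
prune_inst 0x7ffca9f9abb831dfdfff7e7ffed9dffc3b901fffe6dff94bffe863ff1bdf130009c5f3ad09e0d0fe0e96c29410a87803fbffdeffea6bdc7ffffd5ff45ffbee5ff5f7bd08119688340f3c2ff70bf07f8e7f3fffffffffffffffffffffffffffbeffffffffffff

-- part: H792/OnThree/Cent
section
prune_inst 0x3560654448e202000000001240003c06ce000190002b000179c00e420e8eff2280802760c0801d0402c2a28500350000021000504000000000000000011800a0802b16069158ac0c14008f003006000000000000000000000000000000041000000000000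
set_option linter.all false
open scoped Cfsg.Agent.FastGrp

/-!
# The elements of order 31 of the O'Nan group are self-centralizing (helper792)
-/

set_option autoImplicit false
set_option maxRecDepth 100000

namespace Cfsg.Agent.H792.OnThree

open Cfsg Subgroup
open Cfsg.Spor (ON)
open Cfsg.Agent.H921.Spor.ON (eqb neb wd)
open Cfsg.Agent.H393.Iso Cfsg.Agent.H163.PG Cfsg.Agent.H149.Sp

/-! ### an element of order 31 and its normalizer -/

def uX : List ℕ := [0, 6, 4, 0, 5, 0, 6, 4, 0, 5, 4, 3, 6, 0, 4, 3, 1, 4, 6, 5, 2, 4, 5, 0, 3, 6]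
def uG : List ℕ := [1, 5, 4, 5, 6, 7, 5, 3, 4, 5, 6, 3, 0, 5, 4, 5, 3, 6, 4, 5, 2, 3, 0, 0, 5, 7, 6, 5, 4, 5, 6, 3, 4,
      5, 2, 5, 3, 4, 2, 5, 4, 3]

section FastPackMat
open Cfsg.Agent.Lib.PackMat

/-- one step on a row which is followed by 64 arbitrary bits -/
private noncomputable def fStep (p r m t nf GM FM LO HI HT P G : ℕ) : ℕ :=
  Nat.add (Nat.shiftLeft ((fun F => Nat.sub F (Nat.mul p (Nat.land (Nat.shiftRight (Nat.mul F m) t) HT)))
    (Nat.rec (Nat.mod (Nat.land (Nat.mul (Nat.shiftRight P 64) G) GM) FM)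
      (fun _ F => Nat.add (Nat.land F LO) (Nat.land (Nat.shiftRight F r) HI)) nf)) 64)
    (Nat.mod (Nat.add P 1) 18446744073709551557)

private theorem fFold (r LO HI k : ℕ) : ∀ F, foldK r LO HI k F =
    Nat.rec F (fun _ F => Nat.add (Nat.land F LO) (Nat.land (Nat.shiftRight F r) HI)) k := by
  have key : ∀ (f : ℕ → ℕ) (k F : ℕ), (Nat.rec (f F) (fun _ F => f F) k : ℕ) = f (Nat.rec F (fun _ F => f F) k) :=
    fun f k F => by
      induction k with
      | zero => rfl
      | succ k ih => exact congrArg f ih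
  induction k with
  | zero => exact fun _ => rfl
  | succ k ih => exact fun F => (ih _).trans (key (fun F => Nat.add (Nat.land F LO) (Nat.land (Nat.shiftRight F r) HI)) k F)

private theorem fShift (x y : ℕ) : Nat.shiftRight (Nat.add (Nat.shiftLeft x 64) (Nat.mod y 18446744073709551557)) 64 = x := by
  have h : y % 18446744073709551557 < 18446744073709551557 := Nat.mod_lt _ (by decide)
  show (x <<< 64 + y % 18446744073709551557) >>> 64 = x
  rw [Nat.shiftLeft_eq, Nat.shiftRight_eq_div_pow]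
  omega

private noncomputable def fRun (p r m t nf GM FM LO HI HT : ℕ) (w : List ℕ) : ℕ → ℕ :=
  List.rec (fun P => Nat.shiftRight P 64) (fun g _ ih P => force (fStep p r m t nf GM FM LO HI HT P g) ih) w

private theorem fRun_eq (p r m t nf GM FM LO HI HT : ℕ) (w : List ℕ) : ∀ P, fRun p r m t nf GM FM LO HI HT w P =
    runK p r m t nf GM FM LO HI HT w (Nat.shiftRight P 64) := by
  induction w with
  | nil => exact fun _ => rfl
  | cons g w ih =>
    intro P
    refine (ih (fStep p r m t nf GM FM LO HI HT P g)).trans (congrArg (runK p r m t nf GM FM LO HI HT w) ?_)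
    refine (fShift _ _).trans ?_
    rw [← fFold]
    rfl

private noncomputable def fList (w : List ℕ) : (List ℕ → Bool) → Bool :=
  List.rec (fun k => k []) (fun g _ ih k => force g fun g' => ih fun l => k (g' :: l)) w

private theorem fList_eq (w : List ℕ) : ∀ k, fList w k = k w := by
  induction w with
  | nil => exact fun _ => rfl
  | cons g w ih => exact fun k => ih fun l => k (g :: l)

/-- the start of the row number `i` -/
private noncomputable def fIni (R i : ℕ) : ℕ := Nat.add (Nat.shiftLeft R 64) (Nat.mod i 18446744073709551557)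

/-- `checkScalar` -/
private noncomputable def fScalar (C : Cfg) (w : List ℕ) (c lo cnt : ℕ) : Bool :=
  bif Nat.ble (lo + cnt) C.n then fList w fun w =>
    withC C fun s p r m t nf GM FM LO HI HT => force (unitRow C 1 lo) fun R =>
      Nat.rec (motive := fun _ => ℕ → Bool) (fun _ => true) (fun i ih R =>
        bif Nat.beq (fRun p r m t nf GM FM LO HI HT w (fIni R i)) (Nat.mul c R) then force (Nat.shiftRight R s) ih
        else false) cnt R
  else false

private theorem fScalar_eq (C : Cfg) (w : List ℕ) (c lo cnt : ℕ) : checkScalar C w c lo cnt = fScalar C w c lo cnt := by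
  have key : ∀ s p r m t nf GM FM LO HI HT cnt R, checkScalarK s p r m t nf GM FM LO HI HT w c cnt R =
      Nat.rec (motive := fun _ => ℕ → Bool) (fun _ => true) (fun i ih R =>
        bif Nat.beq (fRun p r m t nf GM FM LO HI HT w (fIni R i)) (Nat.mul c R) then force (Nat.shiftRight R s) ih
        else false) cnt R := fun s p r m t nf GM FM LO HI HT cnt => by
    induction cnt with
    | zero => exact fun _ => rfl
    | succ i ih =>
      intro R
      show (bif Nat.beq (runK p r m t nf GM FM LO HI HT w R) (Nat.mul c R) then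
        checkScalarK s p r m t nf GM FM LO HI HT w c i (Nat.shiftRight R s) else false) =
        bif Nat.beq (fRun p r m t nf GM FM LO HI HT w (fIni R i)) (Nat.mul c R) then _ else false
      rw [ih, fRun_eq, fIni, fShift]
      rfl
  rw [fScalar, fList_eq]
  exact congrArg (fun b => bif Nat.ble (lo + cnt) C.n then b else false) (key _ _ _ _ _ _ _ _ _ _ _ _ _)

private noncomputable def fokw (l : List Cfsg.Spor.ON.Gen) : Bool :=
  fScalar Cfsg.Agent.SporadicB.ON45Data.C45 (Cfsg.Agent.KFacts.MulSpor.ON.mats l) 1 0 45 ||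
    (fScalar Cfsg.Agent.SporadicB.ON45Data.C45 (Cfsg.Agent.KFacts.MulSpor.ON.mats l) 2 0 45 ||
      fScalar Cfsg.Agent.SporadicB.ON45Data.C45 (Cfsg.Agent.KFacts.MulSpor.ON.mats l) 4 0 45)

private theorem eqb_of (u v : List ℕ) (h : fokw (Cfsg.Agent.H921.Spor.ON.ex u ++
    Cfsg.Agent.KFacts.MulSpor.ON.iw (Cfsg.Agent.H921.Spor.ON.ex v)) = true) : eqb u v = true := by
  rw [fokw, ← fScalar_eq, ← fScalar_eq, ← fScalar_eq] at h
  exact h

end FastPackMat

theorem t1 : eqb (List.replicate 31 uX).flatten [] = true := eqb_of _ _ (by decide +kernel)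
theorem t2 : neb uX = true := by decide +kernel
theorem t3 : eqb (uG ++ uX) ((List.replicate 19 uX).flatten ++ uG) = true := eqb_of _ _ (by decide +kernel)

theorem card_ON : Nat.card ON = 460815505920 := Cfsg.Agent.KFacts.ON.OneClass.card_ON

theorem hs : IsSimpleGroup ON := Cfsg.Agent.KFacts.ON.Words.hs

theorem W_replicate {T : Type*} [Group T] (w : Cfsg.Agent.H921.Spor.Wd T) (u : List ℕ) (n : ℕ) :
    w.W (List.replicate n u).flatten = w.W u ^ n := by
  induction n with
  | zero => rw [pow_zero, List.replicate_zero, List.flatten_nil, w.nil]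
  | succ n ih => rw [List.replicate_succ, List.flatten_cons, w.app, ih, pow_succ']

theorem exists_aux {T : Type*} [Group T] (w : Cfsg.Agent.H921.Spor.Wd T) {e : List ℕ → List ℕ → Bool} {n : List ℕ → Bool}
    (he : w.eq = e) (hn : w.ne = n) {X G : List ℕ} {r k : ℕ} (hr : r.Prime)
    (h1 : e (List.replicate r X).flatten [] = true) (h2 : n X = true)
    (h3 : e (G ++ X) ((List.replicate k X).flatten ++ G) = true) :
    ∃ x g : T, orderOf x = r ∧ g * x * g⁻¹ = x ^ k := by
  subst he hn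
  have h1 := w.eq_sound h1
  have h2 := w.ne_sound h2
  have h3 := w.eq_sound h3
  rw [W_replicate, w.nil] at h1
  rw [w.app, w.app, W_replicate] at h3
  have : Fact r.Prime := ⟨hr⟩
  exact ⟨_, _, orderOf_eq_prime h1 h2, mul_inv_eq_iff_eq_mul.2 h3⟩

theorem exists_fifteen : ∃ x g : ON, orderOf x = 31 ∧ g * x * g⁻¹ = x ^ 19 :=
  exists_aux (wd hs) (e := eqb) (n := neb) rfl rfl (X := uX) (G := uG) (r := 31) (k := 19) (by norm_num) t1 t2 t3

/-! ### primes not adjacent to 31 -/

theorem not_adj_eleven : ¬ Adj ON 31 11 := by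
  have := H153.Zeros.ON19.finite_ON
  have hsim : IsSimpleGroup ON := hs
  have hN := card_ON
  have h : Spor.IsoON ON := ⟨MulEquiv.refl _⟩
  have n11 : NA 11 ON := na_on_all h (by norm_num)
  have n31 : NA 31 ON := na_on_all h (by norm_num)
  have h2 : ¬ Adj ON 11 31 := Eng.not_adj (r := 11) (s := 31) (a := 9) (M := 1351365120)
    (L := [(3, 4), (5, 1), (7, 3), (19, 1)]) (ks := [2, 3, 5, 6, 10, 15, 30]) (kills := [19]) (by rw [hN])
    (by decide +kernel) (by norm_num) (by simp; norm_num)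
    (by decide) (by decide +kernel) (by decide +kernel) (by decide +kernel) n11 n31
    (by simpa using ⟨by norm_num, H153.Zeros.ON19.not_adj.1⟩)
  exact fun h => h2 h.symm

theorem not_dvd_of_not_adj {x : ON} (hx : orderOf x = 31) {q : ℕ} (hq : q.Prime) (h19 : q ≠ 31)
    (h : ¬ Adj ON 31 q) : ¬ q ∣ Nat.card (centralizer ({x} : Set ON)) := by
  intro hd
  have := H153.Zeros.ON19.finite_ON
  have : Fact q.Prime := ⟨hq⟩
  obtain ⟨y, hy⟩ := exists_prime_orderOf_dvd_card' q hd
  refine h (adj_of_commute (by norm_num) hq h19.symm hx (y := (y : ON)) (by rw [Subgroup.orderOf_coe, hy]) ?_)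
  exact (mem_centralizer_singleton_iff.1 y.2).symm

/-! ### the prime 7 -/

/-- In a solvable group whose order is divisible by `31` and `49` an element of order 31 commutes with a subgroup of
order divisible by 49. -/
theorem key31 {G : Type*} [Group G] [Finite G] (hs : Group.IsSolvable G) (h31 : 31 ∣ Nat.card G)
    (hsq : ¬ 31 * 31 ∣ Nat.card G) (h7 : ¬ 7 ^ 4 ∣ Nat.card G) (h49 : 49 ∣ Nat.card G) :
    ∃ y : G, orderOf y = 31 ∧ 49 ∣ Nat.card (centralizer ({y} : Set G)) := by
  have f31 : Fact (Nat.Prime 31) := ⟨by norm_num⟩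
  have f7 : Fact (Nat.Prime 7) := ⟨by norm_num⟩
  obtain ⟨K, hK, hKi, -⟩ := Cfsg.Agent.OddOrderLocal.HallPi.exists_hall_ge_top (G := G) ({7, 31} : Set ℕ)
    (X := ⊥) (by
      intro q hq hd
      rw [card_bot] at hd
      exact absurd (Nat.dvd_one.1 hd) hq.one_lt.ne')
  have hKd : Nat.card K ∣ Nat.card G := K.card_subgroup_dvd_card
  have hK31 : 31 ∣ Nat.card K := by
    rw [← K.card_mul_index] at h31
    exact (f31.out.dvd_mul.1 h31).resolve_right (hKi 31 f31.out (by right; rfl))
  have hK49 : 49 ∣ Nat.card K := by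
    rw [← K.card_mul_index] at h49
    have h1 : ¬ 7 ∣ K.index := hKi 7 f7.out (by left; rfl)
    exact (Nat.Coprime.dvd_mul_right (Nat.Coprime.pow_left 2 ((Nat.Prime.coprime_iff_not_dvd f7.out).2 h1))).1 h49
  let P : Sylow 31 K := default
  have hP : Nat.card P = 31 := by
    rw [P.card_eq_multiplicity]
    have h1 : (Nat.card K).factorization 31 = 1 :=
      H713.factorization_eq_one hK31 fun h => hsq (h.trans hKd)
    rw [h1, pow_one]
  -- the index of `P` is a power of 7
  have hidx : ∃ a : ℕ, (P : Subgroup K).index = 7 ^ a := by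
    have h0 : (P : Subgroup K).index ≠ 0 := Subgroup.index_ne_zero_of_finite
    refine ⟨_, Nat.eq_prime_pow_of_unique_prime_dvd h0 fun {q} hq hd => ?_⟩
    have h1 : q ∣ Nat.card K := hd.trans ((P : Subgroup K).index_dvd_card)
    rcases hK q hq h1 with h2 | h2
    · exact h2
    · exfalso
      have h3 : q = 31 := h2
      rw [h3] at hd
      exact P.not_dvd_index hd
  obtain ⟨a, ha⟩ := hidx
  have ha3 : a ≤ 3 := by
    by_contra hcon
    apply h7
    refine (pow_dvd_pow 7 (by omega : 4 ≤ a)).trans ?_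
    rw [← ha]
    exact ((P : Subgroup K).index_dvd_card).trans hKd
  have hn : Nat.card (Sylow 31 K) = 1 := by
    have h1 : Nat.card (Sylow 31 K) ∣ 7 ^ a := ha ▸ Sylow.card_dvd_index P
    have h2 : Nat.card (Sylow 31 K) ≡ 1 [MOD 31] := card_sylow_modEq_one 31 K
    obtain ⟨b, hb, hb2⟩ := (Nat.dvd_prime_pow f7.out).1 h1
    rw [hb2] at h2 ⊢
    have hb4 : b < 4 := by omega
    interval_cases b <;> first | rfl | (exfalso; revert h2; decide)
  have hsub : Subsingleton (Sylow 31 K) := (Nat.card_eq_one_iff_unique.1 hn).1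
  have hPn : (P : Subgroup K).Normal := Sylow.normal_of_subsingleton P
  obtain ⟨y, hy⟩ := exists_prime_orderOf_dvd_card' (G := P) 31 (by rw [hP])
  have hyo : orderOf (y : K) = 31 := by rw [Subgroup.orderOf_coe]; exact hy
  have hPy : (P : Subgroup K) = zpowers (y : K) := by
    symm
    apply Subgroup.eq_of_le_of_card_ge (zpowers_le.2 y.2)
    rw [Nat.card_zpowers, hyo]
    exact hP.le
  -- the elements of 7-power order commute with `y`
  let Q : Sylow 7 K := default
  have hQ : 49 ∣ Nat.card Q := by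
    have := Q.pow_dvd_card_of_pow_dvd_card (n := 2) (by simpa using hK49)
    simpa using this
  have hcomm : ∀ q ∈ (Q : Subgroup K), q * (y : K) = y * q := by
    intro q hq
    obtain ⟨k, hk⟩ := (IsPGroup.iff_orderOf.1 Q.2) ⟨q, hq⟩
    rw [Subgroup.orderOf_mk] at hk
    have h1 : q * (y : K) * q⁻¹ ∈ zpowers (y : K) := by
      rw [← hPy]; exact hPn.conj_mem _ y.2 q
    obtain ⟨i, hi⟩ := (mem_powers_iff_mem_zpowers (x := (y : K)) (y := q * (y : K) * q⁻¹)).2 h1
    have hi' : (y : K) ^ i = q * y * q⁻¹ := hi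
    have hpow : ∀ j : ℕ, q ^ j * (y : K) * (q ^ j)⁻¹ = (y : K) ^ (i ^ j) := by
      intro j
      induction j with
      | zero => simp
      | succ j ih =>
        have h2 : q ^ (j + 1) * (y : K) * (q ^ (j + 1))⁻¹ = q * (q ^ j * (y : K) * (q ^ j)⁻¹) * q⁻¹ := by
          rw [pow_succ']
          group
        rw [h2, ih, ← conj_pow, ← hi', ← pow_mul, pow_succ']
    have h2 := hpow (7 ^ k)
    rw [← hk, pow_orderOf_eq_one, one_mul, inv_one, mul_one] at h2
    have h3 : i ^ (orderOf q) ≡ 1 [MOD 31] := by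
      rw [← hyo]
      refine (pow_eq_pow_iff_modEq (x := (y : K))).1 ?_
      rw [pow_one]
      exact h2.symm
    rw [hk] at h3
    have h4 : ((i : ZMod 31)) ^ (7 ^ k) = 1 := by
      have := (ZMod.natCast_eq_natCast_iff _ _ _).2 h3
      push_cast at this
      exact this
    have hi0 : (i : ZMod 31) ≠ 0 := by
      intro h0
      rw [h0, zero_pow (pow_pos (by norm_num) k).ne'] at h4
      exact zero_ne_one h4
    have h5 : (i : ZMod 31) ^ 30 = 1 := by
      have := ZMod.pow_card_sub_one_eq_one hi0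
      simpa using this
    have h6 : (i : ZMod 31) = 1 := by
      have h7 : orderOf (i : ZMod 31) ∣ Nat.gcd (7 ^ k) 30 :=
        Nat.dvd_gcd (orderOf_dvd_of_pow_eq_one h4) (orderOf_dvd_of_pow_eq_one h5)
      have h8 : Nat.gcd (7 ^ k) 30 = 1 := Nat.Coprime.pow_left k (by norm_num)
      rw [h8] at h7
      exact orderOf_eq_one_iff.1 (Nat.dvd_one.1 h7)
    have h7 : (y : K) ^ i = (y : K) ^ 1 := by
      rw [pow_eq_pow_iff_modEq, hyo]
      refine (ZMod.natCast_eq_natCast_iff _ _ _).1 ?_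
      rw [h6, Nat.cast_one]
    rw [h7, pow_one] at hi'
    exact (mul_inv_eq_iff_eq_mul.1 hi'.symm)
  refine ⟨((y : K) : G), by rw [Subgroup.orderOf_coe]; exact hyo, ?_⟩
  have h1 : (Q : Subgroup K).map K.subtype ≤ centralizer ({((y : K) : G)} : Set G) := by
    rintro _ ⟨q, hq, rfl⟩
    rw [mem_centralizer_singleton_iff]
    exact congrArg (fun z : K => (z : G)) (hcomm q hq)
  have h2 : Nat.card ((Q : Subgroup K).map K.subtype) = Nat.card Q :=
    card_map_of_injective K.subtype_injective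
  exact (hQ.trans (by rw [← h2])).trans (card_dvd_of_le h1)

theorem fortynine {y : ON} (hy : orderOf y = 7) : 49 ∣ Nat.card (centralizer ({y} : Set ON)) := by
  have := H153.Zeros.ON19.finite_ON
  have f7 : Fact (Nat.Prime 7) := ⟨by norm_num⟩
  have hyp : IsPGroup 7 (zpowers y) := IsPGroup.of_card (n := 1) (by rw [Nat.card_zpowers, hy, pow_one])
  obtain ⟨P, hP⟩ := hyp.exists_le_sylow
  have hyP : y ∈ (P : Subgroup ON) := hP (mem_zpowers y)
  have hPc : 7 ^ 3 ∣ Nat.card P := P.pow_dvd_card_of_pow_dvd_card (by rw [card_ON]; norm_num)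
  set C := centralizer ({y} : Set ON) ⊓ (P : Subgroup ON) with hC
  have hCp : IsPGroup 7 C := P.2.to_le inf_le_right
  obtain ⟨k, hk⟩ := IsPGroup.iff_card.1 hCp
  have hle : C ≤ centralizer ({y} : Set ON) := inf_le_left
  by_cases h2 : 2 ≤ k
  · have h3 : 7 ^ 2 ∣ Nat.card C := by rw [hk]; exact pow_dvd_pow 7 h2
    exact (show (49 : ℕ) ∣ Nat.card C by simpa using h3).trans (card_dvd_of_le hle)
  exfalso
  have hyC : zpowers y ≤ C := by
    rw [zpowers_le]
    exact ⟨mem_centralizer_singleton_iff.2 rfl, hyP⟩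
  have h3 : Nat.card (zpowers y) ≤ Nat.card C := Nat.card_le_card_of_injective _ (inclusion_injective hyC)
  rw [Nat.card_zpowers, hy, hk] at h3
  have hk1 : k = 1 := by
    have : k ≠ 0 := by
      rintro rfl
      norm_num at h3
    omega
  have hCe : zpowers y = C := by
    refine Subgroup.eq_of_le_of_card_ge hyC ?_
    rw [hk, hk1, Nat.card_zpowers, hy, pow_one]
  have hPn : Nontrivial (P : Subgroup ON) := by
    rw [← Finite.one_lt_card_iff_nontrivial]
    have := Nat.le_of_dvd Nat.card_pos hPc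
    exact lt_of_lt_of_le (by norm_num) this
  have hZ : Nontrivial (center (P : Subgroup ON)) := P.2.center_nontrivial
  obtain ⟨⟨z, hz⟩, hz1⟩ := exists_ne (1 : center (P : Subgroup ON))
  have hz1' : (z : ON) ≠ 1 := fun h => hz1 (Subtype.ext (Subtype.ext h))
  have hzC : (z : ON) ∈ C := by
    refine ⟨mem_centralizer_singleton_iff.2 ?_, z.2⟩
    exact congrArg (fun w : (P : Subgroup ON) => (w : ON)) (mem_center_iff.1 hz ⟨y, hyP⟩).symm
  have hyz : y ∈ zpowers (z : ON) := by
    rw [← hCe] at hzC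
    have h4 : Nat.card (zpowers (z : ON)) = 7 := by
      have h5 : orderOf (z : ON) ∣ 7 := by
        have h6 := orderOf_dvd_natCard (⟨(z : ON), hzC⟩ : zpowers y)
        rwa [Subgroup.orderOf_mk, Nat.card_zpowers, hy] at h6
      rw [Nat.card_zpowers]
      rcases (Nat.dvd_prime f7.out).1 h5 with h6 | h6
      · exact absurd (orderOf_eq_one_iff.1 h6) hz1'
      · exact h6
    have h5 : zpowers (z : ON) = zpowers y := by
      refine Subgroup.eq_of_le_of_card_ge (zpowers_le.2 hzC) ?_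
      rw [h4, Nat.card_zpowers, hy]
    rw [h5]
    exact mem_zpowers y
  have hPC : (P : Subgroup ON) ≤ C := by
    intro q hq
    refine ⟨mem_centralizer_singleton_iff.2 ?_, hq⟩
    have h4 : Commute q (z : ON) := congrArg (fun w : (P : Subgroup ON) => (w : ON)) (mem_center_iff.1 hz ⟨q, hq⟩)
    exact H547.SelfCent.commute_of_mem h4 hyz
  have h4 := Nat.le_of_dvd Nat.card_pos (hPc.trans (card_dvd_of_le hPC))
  rw [hk, hk1] at h4
  norm_num at h4

/-- an element of order 31 commuting with an element of order 7 -/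
theorem seven {x : ON} (hx : orderOf x = 31) (h : 7 ∣ Nat.card (centralizer ({x} : Set ON))) :
    49 ∣ Nat.card (centralizer ({x} : Set ON)) := by
  have := H153.Zeros.ON19.finite_ON
  have f7 : Fact (Nat.Prime 7) := ⟨by norm_num⟩
  obtain ⟨⟨y, hyx⟩, hy⟩ := exists_prime_orderOf_dvd_card' 7 h
  have hyo : orderOf y = 7 := by rw [← hy, Subgroup.orderOf_mk]
  have hsol := Cfsg.Agent.CpAutON.Seven.solvable (fun K _ _ hK => Cfsg.Agent.S0205.result hK) hyo
  have hd : Nat.card (centralizer ({y} : Set ON)) ∣ 460815505920 := card_ON ▸ card_subgroup_dvd_card _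
  have hxm : x ∈ centralizer ({y} : Set ON) :=
    mem_centralizer_singleton_iff.2 (mem_centralizer_singleton_iff.1 hyx).symm
  have h31 : 31 ∣ Nat.card (centralizer ({y} : Set ON)) := by
    have := orderOf_dvd_natCard (⟨x, hxm⟩ : centralizer ({y} : Set ON))
    rwa [Subgroup.orderOf_mk, hx] at this
  obtain ⟨z, hz, h49⟩ := key31 hsol h31 (fun h => absurd (h.trans hd) (by norm_num))
    (fun h => absurd (h.trans hd) (by norm_num)) (fortynine hyo)
  have hzo : orderOf (z : ON) = 31 := by rw [Subgroup.orderOf_coe]; exact hz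
  have h1 : (centralizer ({z} : Set (centralizer ({y} : Set ON)))).map (centralizer ({y} : Set ON)).subtype ≤
      centralizer ({(z : ON)} : Set ON) := by
    rintro _ ⟨q, hq, rfl⟩
    rw [mem_centralizer_singleton_iff]
    exact congrArg (fun w : centralizer ({y} : Set ON) => (w : ON)) (mem_centralizer_singleton_iff.1 hq)
  have h2 : Nat.card ((centralizer ({z} : Set (centralizer ({y} : Set ON)))).map (centralizer ({y} : Set ON)).subtype) =
      Nat.card (centralizer ({z} : Set (centralizer ({y} : Set ON)))) :=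
    card_map_of_injective (centralizer ({y} : Set ON)).subtype_injective
  have h3 : 49 ∣ Nat.card (centralizer ({(z : ON)} : Set ON)) :=
    (h49.trans (by rw [← h2])).trans (card_dvd_of_le h1)
  rwa [H547.SelfCent.card_cent_eq (r := 31) (by norm_num) (by rw [card_ON]; norm_num) hx hzo]

/-- the possible values of `|C(x)| / 31` -/
def cs : List ℕ := (H547.SelfCent.divl [(3, 4), (5, 1), (7, 3)]).filter fun c => c % 7 != 0 || c % 49 == 0

theorem hchk : H547.SelfCent.chkL 460815505920 31 15 cs = true := by decide +kernel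

/-- **the elements of order 31 are self-centralizing** -/
theorem card_cent {x : ON} (hx : orderOf x = 31) : Nat.card (centralizer ({x} : Set ON)) = 31 := by
  have := H153.Zeros.ON19.finite_ON
  have hsim : IsSimpleGroup ON := hs
  have hsq : ¬ 31 * 31 ∣ Nat.card ON := by rw [card_ON]; norm_num
  have n31 : NA 31 ON := na_on_all ⟨MulEquiv.refl _⟩ (by norm_num)
  refine H547.SelfCent.card_of_chkL (N := 460815505920) (m := 15) (L := cs) (by norm_num) hx card_ON (by norm_num)
    (by norm_num) ?_ ?_ hchk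
  · intro c hc
    have hodd : ¬ 2 ∣ 31 * c := hc ▸ H547.SelfCent.odd_cent hx n31
    have h11 : ¬ 11 ∣ 31 * c := hc ▸ not_dvd_of_not_adj hx (by norm_num) (by norm_num) not_adj_eleven
    have h19 : ¬ 19 ∣ 31 * c :=
      hc ▸ not_dvd_of_not_adj hx (by norm_num) (by norm_num) fun h => H153.Zeros.ON19.not_adj.1 h.symm
    have hcd : c ∣ 138915 := by
      have h4 : 31 * c ∣ 31 * 14865016320 := by
        have := Subgroup.card_subgroup_dvd_card (centralizer ({x} : Set ON))
        rw [hc, card_ON] at this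
        exact this
      have h5 : c ∣ 14865016320 := Nat.dvd_of_mul_dvd_mul_left (by norm_num) h4
      have h6 : c ∣ 2 ^ 9 * (11 * (19 * 138915)) := by
        have : (2 ^ 9 * (11 * (19 * 138915)) : ℕ) = 14865016320 := by norm_num
        rw [this]; exact h5
      have cop : ∀ q : ℕ, q.Prime → ¬ q ∣ 31 * c → Nat.Coprime c q := fun q hq h =>
        ((Nat.Prime.coprime_iff_not_dvd hq).2 fun h' => h (h'.mul_left 31)).symm
      have h7 := (Nat.Coprime.pow_right 9 (cop 2 Nat.prime_two hodd)).dvd_of_dvd_mul_left h6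
      have h8 := (cop 11 (by norm_num) h11).dvd_of_dvd_mul_left h7
      exact (cop 19 (by norm_num) h19).dvd_of_dvd_mul_left h8
    have hcl : c ∈ H547.SelfCent.divl [(3, 4), (5, 1), (7, 3)] := by
      refine H547.SelfCent.mem_divl _ c ?_ ?_
      · intro x hx
        simp only [List.mem_cons, List.not_mem_nil, or_false] at hx
        rcases hx with rfl | rfl | rfl <;> norm_num
      · have : ((([(3, 4), (5, 1), (7, 3)] : List (ℕ × ℕ)).map fun x => x.1 ^ x.2).prod : ℕ) = 138915 := by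
          decide +kernel
        rw [this]; exact hcd
    refine List.mem_filter.2 ⟨hcl, ?_⟩
    by_cases h7 : 7 ∣ c
    · have h8 := seven hx (by rw [hc]; exact h7.mul_left 31)
      rw [hc] at h8
      have h9 : 49 ∣ c := (Nat.Coprime.dvd_of_dvd_mul_left (by norm_num) h8)
      rw [Nat.mod_eq_zero_of_dvd h9]
      simp
    · have h8 : c % 7 ≠ 0 := fun h => h7 (Nat.dvd_of_mod_eq_zero h)
      simp [h8]
  · intro e _ hk
    obtain ⟨x0, g0, hx0, hg0⟩ := exists_fifteen
    obtain ⟨g, hg⟩ := H153.Zeros.ON19.transfer (by norm_num) hsq hx0 hx ⟨g0, hg0⟩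
    have hpow : ∀ n : ℕ, g ^ n * x * (g ^ n)⁻¹ = x ^ (19 ^ n) := by
      intro n
      induction n with
      | zero => simp
      | succ n ih =>
        have h2 : g ^ (n + 1) * x * (g ^ (n + 1))⁻¹ = g * (g ^ n * x * (g ^ n)⁻¹) * g⁻¹ := by
          rw [pow_succ']
          group
        rw [h2, ih, ← conj_pow, hg, ← pow_mul, pow_succ']
    have h3 : 3 ∣ e := by
      have := hk (g ^ 5) (19 ^ 5) 3 0 Nat.prime_three (hpow 5) (by norm_num) (by norm_num)
      simpa using this
    have h5 : 5 ∣ e := by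
      have := hk (g ^ 3) (19 ^ 3) 5 0 (by norm_num) (hpow 3) (by norm_num) (by norm_num)
      simpa using this
    exact Nat.Coprime.mul_dvd_of_dvd_of_dvd (by norm_num) h3 h5

end Cfsg.Agent.H792.OnThree
end

-- part: H248/OC/Exc
section
prune_inst 0x400088002000000000040001c02ca000000000b000000000a0006800c4000000e20b0000002100000040038004002000000420000000a000000011800a0800054040240010c040009000000000000000000000000000000000000000000000000000
set_option linter.all false
open scoped Cfsg.Agent.FastGrp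

-- part: H248/OC/Dim
section
/-!
# Transitive automizers and the dimension of modules

`DatC p t X` : the group `X` has a commutative `p`-subgroup `P` of order at least `t + 1` whose normalizer is
transitive on the nontrivial elements of `P`. Then faithful modules of `X` in characteristic
different from `p` have dimension at least `t`.
-/

set_option autoImplicit false
set_option linter.unusedSectionVars false

namespace Cfsg.Agent.H248.OC.Dim

open Cfsg.Agent.H634.Dim

/-- A commutative `p`-subgroup `P` of order greater than `t` whose normalizer is transitive on the nontrivial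
elements of `P`. -/
def DatC (p t : ℕ) (X : Type*) [Group X] : Prop :=
  ∃ P : Subgroup X, IsPGroup p P ∧ P ≠ ⊥ ∧ (∀ a ∈ P, ∀ b ∈ P, a * b = b * a) ∧ t + 1 ≤ Nat.card P ∧
    ∀ x ∈ P, x ≠ 1 → ∀ y ∈ P, y ≠ 1 → ∃ g : X, (∀ z ∈ P, g * z * g⁻¹ ∈ P) ∧ g * x * g⁻¹ = y

section Char

variable {P : Type*} [Group P] [Finite P] {K : Type*} [Field K]

/-- The values of a nontrivial homomorphism sum up to zero. -/
theorem sum_eq_zero [Fintype P] {χ : P →* K} (hχ : χ ≠ 1) : ∑ x, χ x = 0 := by
  obtain ⟨y, hy⟩ : ∃ y, χ y ≠ 1 := by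
    by_contra h
    push Not at h
    exact hχ (MonoidHom.ext h)
  have h1 : χ y * ∑ x, χ x = ∑ x, χ x := by
    rw [Finset.mul_sum]
    simp_rw [← map_mul]
    exact Fintype.sum_equiv (Equiv.mulLeft y) _ _ fun x => rfl
  have h2 : (χ y - 1) * ∑ x, χ x = 0 := by rw [sub_mul, h1, one_mul, sub_self]
  exact (mul_eq_zero.1 h2).resolve_left (sub_ne_zero.2 hy)

theorem sum_mul_inv [Fintype P] {θ ψ : P →* K} (h : θ ≠ ψ) : ∑ x, θ x * ψ x⁻¹ = 0 := by
  have hne : ∀ x, ψ x ≠ 0 := fun x h0 => by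
    have : ψ x * ψ x⁻¹ = 1 := by rw [← map_mul, mul_inv_cancel, map_one]
    rw [h0, zero_mul] at this
    exact zero_ne_one this
  let ω : P →* K :=
    { toFun := fun x => θ x * ψ x⁻¹
      map_one' := by simp
      map_mul' := fun x y => by
        rw [map_mul, mul_inv_rev, map_mul]
        ring }
  have hω : ω ≠ 1 := by
    intro h0
    apply h
    ext x
    have h1 : θ x * ψ x⁻¹ = 1 := DFunLike.congr_fun h0 x
    have h2 : ψ x⁻¹ * ψ x = 1 := by rw [← map_mul, inv_mul_cancel, map_one]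
    calc θ x = θ x * (ψ x⁻¹ * ψ x) := by rw [h2, mul_one]
      _ = (θ x * ψ x⁻¹) * ψ x := by rw [mul_assoc]
      _ = ψ x := by rw [h1, one_mul]
  exact sum_eq_zero hω

/-- If a group of automorphisms is transitive on the nontrivial elements, it is transitive on the nontrivial
characters. -/
theorem exists_comp [Fintype P] (hP0 : (Fintype.card P : K) ≠ 0) {A : Type*} [Group A] [Finite A] (cj : A → P →* P)
    (h1 : ∀ x, cj 1 x = x) (hm : ∀ a b x, cj (a * b) x = cj b (cj a x))
    (htr : ∀ x y : P, x ≠ 1 → y ≠ 1 → ∃ a, cj a x = y)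
    {χ ψ : P →* K} (hχ : χ ≠ 1) (hψ : ψ ≠ 1) : ∃ a, χ.comp (cj a) = ψ := by
  classical
  have : Fintype A := Fintype.ofFinite A
  by_contra hcon
  push Not at hcon
  obtain ⟨O, hOd⟩ : ∃ O : Finset (P →* K), ∀ θ, θ ∈ O ↔ ∃ a : A, χ.comp (cj a) = θ :=
    ⟨Finset.univ.image fun a : A => χ.comp (cj a), fun θ => by simp only [_root_.Finset.mem_image, _root_.Finset.mem_univ, _root_.true_and]⟩
  have hO : ∀ θ ∈ O, θ ≠ ψ := by
    intro θ hθ
    obtain ⟨a, rfl⟩ := (hOd θ).1 hθ
    exact hcon a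
  have hχO : χ ∈ O := (hOd χ).2 ⟨1, by ext x; simp [h1]⟩
  let F : P → K := fun x => ∑ θ ∈ O, θ x
  have hinj : ∀ a, Function.Injective (cj a) := by
    intro a x y hxy
    have h2 : ∀ x, cj a⁻¹ (cj a x) = x := fun x => by rw [← hm, mul_inv_cancel, h1]
    rw [← h2 x, hxy, h2]
  have hsurj : ∀ a, Function.Surjective (cj a) := fun a => Finite.surjective_of_injective (hinj a)
  have hF : ∀ a x, F (cj a x) = F x := by
    intro a x
    change ∑ θ ∈ O, θ (cj a x) = ∑ θ ∈ O, θ x
    have himg : O.image (fun θ : P →* K => θ.comp (cj a)) = O := by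
      apply Finset.eq_of_subset_of_card_le
      · intro θ hθ
        obtain ⟨θ', hθ', rfl⟩ := Finset.mem_image.1 hθ
        obtain ⟨b, rfl⟩ := (hOd θ').1 hθ'
        refine (hOd _).2 ⟨a * b, ?_⟩
        ext y
        simp only [MonoidHom.comp_apply]
        rw [hm]
      · rw [Finset.card_image_of_injective]
        intro θ θ' h
        exact (MonoidHom.cancel_right (hsurj a)).1 h
    conv_rhs => rw [← himg]
    rw [Finset.sum_image]
    · rfl
    · intro θ _ θ' _ h
      exact (MonoidHom.cancel_right (hsurj a)).1 h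
  obtain ⟨x0, hx0⟩ : ∃ x0, χ x0 ≠ 1 := by
    by_contra h
    push Not at h
    exact hχ (MonoidHom.ext h)
  have hx01 : x0 ≠ 1 := fun h => hx0 (by rw [h, map_one])
  have hFc : ∀ x, x ≠ 1 → F x = F x0 := by
    intro x hx
    obtain ⟨a, ha⟩ := htr x x0 hx hx01
    rw [← ha, hF]
  -- the sum against a nontrivial character
  have hsum : ∀ θ : P →* K, θ ≠ 1 → ∑ x, F x * θ x⁻¹ = F 1 - F x0 := by
    intro θ hθ
    have h2 : ∑ x, θ x⁻¹ = 0 := by
      rw [← sum_eq_zero hθ]
      exact Fintype.sum_equiv (Equiv.inv P) _ _ fun x => rfl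
    rw [← Finset.add_sum_erase _ _ (Finset.mem_univ (1 : P))] at h2 ⊢
    have h3 : ∑ x ∈ Finset.univ.erase (1 : P), F x * θ x⁻¹ = F x0 * ∑ x ∈ Finset.univ.erase (1 : P), θ x⁻¹ := by
      rw [Finset.mul_sum]
      refine Finset.sum_congr rfl fun x hx => ?_
      rw [hFc x (Finset.ne_of_mem_erase hx)]
    rw [h3]
    rw [inv_one, map_one] at h2 ⊢
    have h4 : ∑ x ∈ Finset.univ.erase (1 : P), θ x⁻¹ = -1 := by
      rw [← sub_eq_zero, sub_neg_eq_add, add_comm]
      exact h2
    rw [h4]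
    ring
  have hsum' : ∀ θ : P →* K, ∑ x, F x * θ x⁻¹ = ∑ η ∈ O, ∑ x, η x * θ x⁻¹ := by
    intro θ
    rw [Finset.sum_comm]
    refine Finset.sum_congr rfl fun x _ => ?_
    change (∑ η ∈ O, η x) * θ x⁻¹ = _
    rw [Finset.sum_mul]
  have h2 : F 1 - F x0 = 0 := by
    rw [← hsum ψ hψ, hsum' ψ]
    exact Finset.sum_eq_zero fun θ hθ => sum_mul_inv (hO θ hθ)
  have h3 : F 1 - F x0 = (Fintype.card P : K) := by
    rw [← hsum χ hχ, hsum' χ, Finset.sum_eq_single χ]
    · have h4 : ∀ x, χ x * χ x⁻¹ = 1 := fun x => by rw [← map_mul, mul_inv_cancel, map_one]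
      simp_rw [h4]
      rw [Finset.sum_const, nsmul_eq_mul, mul_one, Finset.card_univ]
    · intro θ _ hθ
      exact sum_mul_inv hθ
    · intro h
      exact absurd hχO h
  exact hP0 (h3.symm.trans h2)

end Char

/-- The number of homomorphisms of a commutative group of order prime to the characteristic. -/
theorem card_hom {P : Type*} [Group P] [Finite P] (hc : ∀ a b : P, a * b = b * a) {K : Type*} [Field K]
    [IsAlgClosed K] (hP0 : (Nat.card P : K) ≠ 0) : Nat.card (P →* K) = Nat.card P := by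
  let _ : CommGroup P := { (inferInstance : Group P) with mul_comm := hc }
  have hexp : NeZero ((Monoid.exponent P : ℕ) : K) := ⟨by
    intro h
    apply hP0
    obtain ⟨k, hk⟩ := Group.exponent_dvd_nat_card (G := P)
    rw [hk, Nat.cast_mul, h, zero_mul]⟩
  have h1 := CommGroup.card_monoidHom_of_hasEnoughRootsOfUnity P K
  rw [← h1]
  exact Nat.card_congr
    { toFun := fun f => f.toHomUnits
      invFun := fun f => (Units.coeHom K).comp f
      left_inv := fun f => by ext x; rfl
      right_inv := fun f => by ext x; rfl }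


/-- Over an algebraically closed field. -/
theorem le_card_aux {X : Type*} [Group X] [Finite X] {p t : ℕ} (hp : p.Prime) (h : DatC p t X) {K ι : Type*} [Field K]
    [IsAlgClosed K] [Fintype ι] [DecidableEq ι] (hpK : (p : K) ≠ 0)
    (R : X →* Module.End K (ι → K)) (hR : Function.Injective R) : t ≤ Fintype.card ι := by
  classical
  obtain ⟨P, hP, hP1, hcomm, hcard, htr⟩ := h
  obtain ⟨⟨x0, hx0⟩, hx01⟩ := Subgroup.ne_bot_iff_exists_ne_one.1 hP1
  have hx01' : x0 ≠ 1 := fun h => hx01 (Subtype.ext h)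
  obtain ⟨k, hk⟩ := hP ⟨x0, hx0⟩
  have hk' : x0 ^ (p ^ k) = 1 := congrArg Subtype.val hk
  set T : Module.End K (ι → K) := R x0 with hT
  have hTpow : T ^ (p ^ k) = 1 := by rw [hT, ← map_pow, hk', map_one]
  have hTne : T ≠ 1 := fun h => hx01' (hR (by rw [map_one]; exact h))
  let Q : P → Module.End K (ι → K) := fun x => R x
  have hQ : ∀ i j, Q i * Q j = Q j * Q i := fun i j => by
    change R i * R j = R j * R i
    rw [← map_mul, ← map_mul, hcomm i i.2 j j.2]
  -- the image of `T - 1`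
  let W : Submodule K (ι → K) := LinearMap.range (T - 1)
  have hW : W ≠ ⊥ := by
    intro h0
    apply hTne
    rw [← sub_eq_zero]
    exact LinearMap.range_eq_bot.1 h0
  have hQW : ∀ j, ∀ w ∈ W, Q j w ∈ W := by
    rintro j _ ⟨u, rfl⟩
    refine ⟨Q j u, ?_⟩
    have h1 : Q j * T = T * Q j := hQ j ⟨x0, hx0⟩
    have h2 : Q j (T u) = T (Q j u) := LinearMap.congr_fun h1 u
    simp only [LinearMap.sub_apply, Module.End.one_apply, map_sub]
    rw [h2]
  obtain ⟨v, hvW, hv0, hv⟩ := exists_scalar Q hQ W hW hQW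
  choose χ hχ using hv
  -- `χ x0 ≠ 1`
  have hχ0 : χ ⟨x0, hx0⟩ ≠ 1 := by
    intro h1
    obtain ⟨u, hu⟩ := hvW
    have hTv : T v = v := by
      have := hχ ⟨x0, hx0⟩
      rw [h1, one_smul] at this
      exact this
    have hTpv : ∀ i : ℕ, (T ^ i) v = v := by
      intro i
      induction i with
      | zero => rfl
      | succ i ih => rw [pow_succ, Module.End.mul_apply, hTv, ih]
    have h2 : (∑ i ∈ Finset.range (p ^ k), T ^ i) * (T - 1) = 0 := by
      rw [geom_sum_mul, hTpow, sub_self]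
    have h3 : (∑ i ∈ Finset.range (p ^ k), T ^ i) v = 0 := by
      rw [← hu]
      exact LinearMap.congr_fun h2 u
    rw [LinearMap.sum_apply, Finset.sum_congr rfl fun i _ => hTpv i, Finset.sum_const,
      Finset.card_range] at h3
    have h4 : ((p : K) ^ k) • v = 0 := by
      rw [← h3, ← Nat.cast_pow, Nat.cast_smul_eq_nsmul]
    rcases smul_eq_zero.1 h4 with h5 | h5
    · exact pow_ne_zero k hpK h5
    · exact hv0 h5
  -- `χ` is a homomorphism
  have hsm : ∀ {a b : K}, a • v = b • v → a = b := by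
    intro a b hab
    have : (a - b) • v = 0 := by rw [sub_smul, hab, sub_self]
    rcases smul_eq_zero.1 this with h | h
    · exact sub_eq_zero.1 h
    · exact absurd h hv0
  let χh : P →* K :=
    { toFun := χ
      map_one' := by
        apply hsm
        rw [← hχ 1, one_smul]
        change R 1 v = v
        rw [map_one]; rfl
      map_mul' := fun a b => by
        apply hsm
        rw [← hχ (a * b)]
        change R ((a : X) * b) v = _
        rw [map_mul, Module.End.mul_apply]
        have hb : R (b : X) v = χ b • v := hχ b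
        have ha : R (a : X) v = χ a • v := hχ a
        rw [hb, map_smul, ha, smul_smul, mul_comm] }
  have hfinP : Fintype P := Fintype.ofFinite P
  have hχ1 : χh ≠ 1 := fun h => hχ0 (DFunLike.congr_fun h ⟨x0, hx0⟩)
  have hP0 : (Nat.card P : K) ≠ 0 := by
    have := Fact.mk hp
    obtain ⟨m, hm⟩ := IsPGroup.iff_card.1 hP
    rw [hm, Nat.cast_pow]
    exact pow_ne_zero _ hpK
  -- the group acting
  let A : Subgroup X :=
    { carrier := {g | (∀ z ∈ P, g⁻¹ * z * g ∈ P) ∧ ∀ z ∈ P, g * z * g⁻¹ ∈ P}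
      one_mem' := ⟨fun z hz => by simpa using hz, fun z hz => by simpa using hz⟩
      mul_mem' := fun {a b} ha hb => ⟨fun z hz => by
        have := hb.1 _ (ha.1 z hz)
        have e : (a * b)⁻¹ * z * (a * b) = b⁻¹ * (a⁻¹ * z * a) * b := by group
        rwa [e], fun z hz => by
        have := ha.2 _ (hb.2 z hz)
        have e : (a * b) * z * (a * b)⁻¹ = a * (b * z * b⁻¹) * a⁻¹ := by group
        rwa [e]⟩
      inv_mem' := fun {a} ha => ⟨fun z hz => by simpa only [_root_.inv_inv] using ha.2 z hz, fun z hz => by simpa using ha.1 z hz⟩ }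
  have hA : ∀ g : X, (∀ z ∈ P, g * z * g⁻¹ ∈ P) → g⁻¹ ∈ A := by
    intro g hg
    refine ⟨fun z hz => by simpa only [_root_.inv_inv] using hg z hz, ?_⟩
    have hs : Function.Surjective (fun z : P => (⟨g * z * g⁻¹, hg z z.2⟩ : P)) := by
      apply Finite.surjective_of_injective
      intro a b hab
      have h1 : g * (a : X) * g⁻¹ = g * b * g⁻¹ := congrArg Subtype.val hab
      exact Subtype.ext (mul_left_cancel (mul_right_cancel h1))
    intro z hz
    obtain ⟨w, hw⟩ := hs ⟨z, hz⟩
    have h1 : g * (w : X) * g⁻¹ = z := congrArg Subtype.val hw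
    have h2 : g⁻¹ * z * g⁻¹⁻¹ = w := by
      rw [← h1]
      group
    rw [h2]
    exact w.2
  let cj : A → P →* P := fun g =>
    { toFun := fun x => ⟨(g : X)⁻¹ * x * g, g.2.1 x x.2⟩
      map_one' := by
        apply Subtype.ext
        change (g : X)⁻¹ * 1 * g = 1
        group
      map_mul' := fun a b => by
        apply Subtype.ext
        change (g : X)⁻¹ * (a * b) * g = ((g : X)⁻¹ * a * g) * ((g : X)⁻¹ * b * g)
        group }
  have key : ∀ ψ : P →* K, ψ ≠ 1 → ∃ a : A, χh.comp (cj a) = ψ := by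
    intro ψ hψ
    refine exists_comp (by rwa [Nat.card_eq_fintype_card] at hP0) cj (fun x => ?_) (fun a b x => ?_) ?_ hχ1 hψ
    · apply Subtype.ext
      change (1 : X)⁻¹ * x * 1 = x
      group
    · apply Subtype.ext
      change ((a : X) * b)⁻¹ * x * (a * b) = (b : X)⁻¹ * ((a : X)⁻¹ * x * a) * b
      group
    · intro x y hx hy
      obtain ⟨g, hg, hgx⟩ := htr x x.2 (fun h => hx (Subtype.ext h)) y y.2 (fun h => hy (Subtype.ext h))
      refine ⟨⟨g⁻¹, hA g hg⟩, Subtype.ext ?_⟩
      change g⁻¹⁻¹ * (x : X) * g⁻¹ = y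
      rw [inv_inv, hgx]
  have hcardP : Nat.card (P →* K) = Nat.card P :=
    card_hom (fun a b => Subtype.ext (hcomm a a.2 b b.2)) hP0
  have hfinH : Finite (P →* K) := Nat.finite_of_card_ne_zero (by rw [hcardP]; exact Nat.card_pos.ne')
  have hFH : Fintype {ψ : P →* K // ψ ≠ 1} := Fintype.ofFinite _
  choose g hg using fun ψ : {ψ : P →* K // ψ ≠ 1} => key ψ.1 ψ.2
  have hli : LinearIndependent K fun ψ : {ψ : P →* K // ψ ≠ 1} => ((ψ.1 : P →* K) : P → K) :=
    (linearIndependent_monoidHom P K).comp _ Subtype.val_injective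
  -- the conjugate vectors
  let w : {ψ : P →* K // ψ ≠ 1} → (ι → K) := fun ψ => R (g ψ : X) v
  have hw : ∀ ψ (x : P), R (x : X) (w ψ) = ψ.1 x • w ψ := by
    intro ψ x
    change R (x : X) (R (g ψ : X) v) = _
    have h1 : (x : X) * (g ψ : X) = (g ψ : X) * (cj (g ψ) x : P) := by
      change (x : X) * (g ψ : X) = (g ψ : X) * ((g ψ : X)⁻¹ * x * (g ψ : X))
      group
    rw [← Module.End.mul_apply, ← map_mul, h1, map_mul, Module.End.mul_apply]
    have h2 : R ((cj (g ψ) x : P) : X) v = χ (cj (g ψ) x) • v := hχ (cj (g ψ) x)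
    have h3 : χ (cj (g ψ) x) = ψ.1 x := DFunLike.congr_fun (hg ψ) x
    rw [h2, map_smul, h3]
  have hw0 : ∀ ψ, w ψ ≠ 0 := by
    intro ψ h0
    apply hv0
    have h1 : R (g ψ : X)⁻¹ (w ψ) = v := by
      change R (g ψ : X)⁻¹ (R (g ψ : X) v) = v
      rw [← Module.End.mul_apply, ← map_mul, inv_mul_cancel, map_one]; rfl
    rw [← h1, h0, map_zero]
  have hlw : LinearIndependent K w := by
    rw [Fintype.linearIndependent_iff]
    intro c hc i
    have h1 : ∀ (x : P), ∑ i, c i • (i.1 x • w i) = 0 := by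
      intro x
      have := congrArg (R (x : X)) hc
      rw [map_sum, map_zero] at this
      rw [← this]
      exact Finset.sum_congr rfl fun i _ => by rw [map_smul, hw]
    have h2 : ∀ l : ι, ∀ i, c i * w i l = 0 := by
      intro l
      rw [Fintype.linearIndependent_iff] at hli
      apply hli
      funext x
      have := congrFun (h1 x) l
      rw [Finset.sum_apply] at this ⊢
      rw [Pi.zero_apply] at this ⊢
      rw [← this]
      refine Finset.sum_congr rfl fun i _ => ?_
      simp only [Pi.smul_apply, smul_eq_mul]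
      ring
    have h3 : ∃ l, w i l ≠ 0 := by
      by_contra hall
      push Not at hall
      exact hw0 i (funext hall)
    obtain ⟨l, hl⟩ := h3
    exact (mul_eq_zero.1 (h2 l i)).resolve_right hl
  have h4 := hlw.fintype_card_le_finrank
  rw [Module.finrank_fintype_fun_eq_card] at h4
  have h5 : Fintype.card {ψ : P →* K // ψ ≠ 1} + 1 = Nat.card P := by
    have hFH' : Fintype (P →* K) := Fintype.ofFinite _
    rw [← hcardP, Nat.card_eq_fintype_card, Fintype.card_subtype_compl, Fintype.card_subtype_eq]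
    have : 1 ≤ Fintype.card (P →* K) := Fintype.card_pos
    omega
  omega

/-- **The dimension of a faithful module in characteristic different from `p` is at least `t`.** -/
theorem le_card {X : Type*} [Group X] [Finite X] {p t : ℕ} (hp : p.Prime) (h : DatC p t X) {F ι : Type*} [Field F]
    [Fintype ι] [DecidableEq ι] (hpF : (p : F) ≠ 0) (ρ : X →* Matrix ι ι F)
    (hρ : Function.Injective ρ) : t ≤ Fintype.card ι := by
  let K := AlgebraicClosure F
  let R : X →* Module.End K (ι → K) :=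
    ((Matrix.toLinAlgEquiv' : Matrix ι ι K ≃ₐ[K] Module.End K (ι → K)) :
      Matrix ι ι K →* Module.End K (ι → K)).comp
      (((algebraMap F K).mapMatrix : Matrix ι ι F →+* Matrix ι ι K).toMonoidHom.comp ρ)
  refine le_card_aux hp h (K := K) ?_ R ?_
  · intro h0
    apply hpF
    apply (algebraMap F K).injective
    rw [map_natCast, h0, map_zero]
  · intro a b hab
    apply hρ
    have h1 := (Matrix.toLinAlgEquiv' : Matrix ι ι K ≃ₐ[K] Module.End K (ι → K)).injective hab
    exact Matrix.map_injective (algebraMap F K).injective h1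

theorem DatC.congr {p t : ℕ} {X Y : Type*} [Group X] [Group Y] (h : DatC p t X) (e : X ≃* Y) :
    DatC p t Y := by
  obtain ⟨P, hP, hP1, hcomm, hcard, htr⟩ := h
  refine ⟨P.map e.toMonoidHom, hP.map _, ?_, ?_, ?_, ?_⟩
  · intro h0
    exact hP1 ((Subgroup.map_eq_bot_iff_of_injective _ e.injective).1 h0)
  · rintro _ ⟨a, ha, rfl⟩ _ ⟨b, hb, rfl⟩
    change e a * e b = e b * e a
    rw [← map_mul, hcomm a ha b hb, map_mul]
  · rwa [Subgroup.card_map_of_injective (f := e.toMonoidHom) e.injective]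
  · rintro _ ⟨a, ha, rfl⟩ ha1 _ ⟨b, hb, rfl⟩ hb1
    obtain ⟨g, hg, hgab⟩ := htr a ha (fun h0 => ha1 (by rw [h0, map_one])) b hb (fun h0 => hb1 (by rw [h0, map_one]))
    refine ⟨e g, ?_, ?_⟩
    · rintro _ ⟨z, hz, rfl⟩
      refine ⟨g * z * g⁻¹, hg z hz, ?_⟩
      change e _ = e g * e z * (e g)⁻¹
      rw [map_mul, map_mul, map_inv]
    · change e g * e a * (e g)⁻¹ = e b
      rw [← map_inv, ← map_mul, ← map_mul, hgab]

/-- Lifting through a central kernel of order prime to `p`. -/
theorem DatC.lift {p t : ℕ} [hp : Fact p.Prime] {X S : Type*} [Group X] [Finite X] [Group S]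
    (h : DatC p t S) (π : X →* S) (hπ : Function.Surjective π) (hk : π.ker ≤ Subgroup.center X)
    (hpk : ¬ p ∣ Nat.card π.ker) : DatC p t X := by
  obtain ⟨P, hP, hP1, hcomm, hcard, htr⟩ := h
  let M : Subgroup X := P.comap π
  obtain ⟨Q⟩ : Nonempty (Sylow p M) := inferInstance
  let P' : Subgroup X := (Q : Subgroup M).map M.subtype
  have hP'M : P' ≤ M := Subgroup.map_subtype_le _
  have hP'p : IsPGroup p P' := Q.isPGroup'.map _
  -- `p`-elements of the kernel are trivial
  have hker : ∀ z : X, π z = 1 → (∃ k : ℕ, z ^ p ^ k = 1) → z = 1 := by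
    rintro z hz ⟨k, hk⟩
    have h1 : orderOf z ∣ p ^ k := orderOf_dvd_of_pow_eq_one hk
    have h2 : orderOf z ∣ Nat.card π.ker := by
      have := orderOf_dvd_natCard (⟨z, hz⟩ : π.ker)
      rwa [← Subgroup.orderOf_coe] at this
    have h3 : (p ^ k).Coprime (Nat.card π.ker) :=
      Nat.Coprime.pow_left _ ((Nat.Prime.coprime_iff_not_dvd hp.out).2 hpk)
    have h4 := Nat.eq_one_of_dvd_coprimes h3 h1 h2
    exact orderOf_eq_one_iff.1 h4
  -- `P'` maps onto `P`
  have hmap : P'.map π = P := by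
    let g : M →* P := π.subgroupComap P
    have hg : Function.Surjective g := by
      rintro ⟨y, hy⟩
      obtain ⟨x, hx⟩ := hπ y
      refine ⟨⟨x, ?_⟩, Subtype.ext hx⟩
      show π x ∈ P
      rw [hx]; exact hy
    have hfin : Finite P := Finite.of_surjective g hg
    have h1 : ((Q.mapSurjective hg : Sylow p P) : Subgroup P) = ⊤ := by
      have h2 : IsPGroup p (⊤ : Subgroup P) := hP.to_subgroup _
      exact ((Q.mapSurjective hg).3 h2 le_top).symm
    have h2 : (Q : Subgroup M).map g = ⊤ := h1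
    apply le_antisymm
    · rintro _ ⟨x, hx, rfl⟩
      exact hP'M hx
    · intro y hy
      have h3 : (⟨y, hy⟩ : P) ∈ (Q : Subgroup M).map g := by rw [h2]; trivial
      obtain ⟨x, hx, hxy⟩ := h3
      exact ⟨x.1, ⟨x, hx, rfl⟩, congrArg Subtype.val hxy⟩
  -- the `p`-elements of `M` lie in `P'`
  have hpel : ∀ x : X, π x ∈ P → (∃ k : ℕ, x ^ p ^ k = 1) → x ∈ P' := by
    rintro x hx ⟨k, hk'⟩
    rw [← hmap] at hx
    obtain ⟨y, hy, hyx⟩ := hx
    have hz : π (x * y⁻¹) = 1 := by
      rw [map_mul, map_inv, ← hyx, mul_inv_cancel]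
    have hzc : ∀ g : X, g * (x * y⁻¹) = (x * y⁻¹) * g :=
      Subgroup.mem_center_iff.1 (hk hz)
    obtain ⟨j, hj⟩ := hP'p ⟨y, hy⟩
    have hj' : y ^ p ^ j = 1 := congrArg Subtype.val hj
    have h1 : x * y⁻¹ = 1 := by
      apply hker _ hz
      refine ⟨k + j, ?_⟩
      have hcm : Commute (x * y⁻¹) y := (hzc y).symm
      have h2 : (x * y⁻¹ * y) ^ p ^ (k + j) = 1 := by
        rw [inv_mul_cancel_right, pow_add, pow_mul, hk', one_pow]
      rw [hcm.mul_pow] at h2
      have h3 : y ^ p ^ (k + j) = 1 := by rw [pow_add, mul_comm, pow_mul, hj', one_pow]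
      rwa [h3, mul_one] at h2
    rw [mul_inv_eq_one] at h1
    rw [h1]; exact hy
  refine ⟨P', hP'p, ?_, ?_, ?_, ?_⟩
  · intro h0
    apply hP1
    rw [← hmap, h0, Subgroup.map_bot]
  · intro a ha b hb
    have h1 : a * b * a⁻¹ * b⁻¹ = 1 := by
      apply hker
      · have ha' : π a ∈ P := hP'M ha
        have hb' : π b ∈ P := hP'M hb
        rw [map_mul, map_mul, map_mul, map_inv, map_inv, hcomm _ ha' _ hb']
        group
      · have hm : a * b * a⁻¹ * b⁻¹ ∈ P' :=
          P'.mul_mem (P'.mul_mem (P'.mul_mem ha hb) (P'.inv_mem ha)) (P'.inv_mem hb)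
        obtain ⟨j, hj⟩ := hP'p ⟨_, hm⟩
        exact ⟨j, congrArg Subtype.val hj⟩
    calc a * b = (a * b * a⁻¹ * b⁻¹) * (b * a) := by group
      _ = b * a := by rw [h1, one_mul]
  · have h1 : Nat.card P ≤ Nat.card P' := by
      rw [← hmap]
      exact Nat.card_le_card_of_surjective (fun x : P' => (⟨π x, ⟨x, x.2, rfl⟩⟩ : P'.map π)) (by
        rintro ⟨_, x, hx, rfl⟩
        exact ⟨⟨x, hx⟩, rfl⟩)
    omega
  · have hne : ∀ x ∈ P', x ≠ 1 → π x ≠ 1 := by
      intro x hx hx1 h0
      obtain ⟨j, hj⟩ := hP'p ⟨x, hx⟩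
      exact hx1 (hker x h0 ⟨j, congrArg Subtype.val hj⟩)
    intro x hx hx1 y hy hy1
    obtain ⟨c, hc, hcxy⟩ := htr (π x) (hP'M hx) (hne x hx hx1) (π y) (hP'M hy) (hne y hy hy1)
    obtain ⟨g, rfl⟩ := hπ c
    have hg : ∀ z ∈ P', g * z * g⁻¹ ∈ P' := by
      intro z hz
      apply hpel
      · rw [map_mul, map_mul, map_inv]
        exact hc _ (hP'M hz)
      · obtain ⟨j, hj⟩ := hP'p ⟨z, hz⟩
        have hj' : z ^ p ^ j = 1 := congrArg Subtype.val hj
        exact ⟨j, by rw [conj_pow, hj']; group⟩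
    refine ⟨g, hg, ?_⟩
    have h1 : g * x * g⁻¹ * y⁻¹ ∈ P' := P'.mul_mem (hg x hx) (P'.inv_mem hy)
    rw [← mul_inv_eq_one]
    apply hker
    · rw [map_mul, map_mul, map_mul, map_inv, map_inv, hcxy, mul_inv_cancel]
    · obtain ⟨j, hj⟩ := hP'p ⟨_, h1⟩
      exact ⟨j, congrArg Subtype.val hj⟩

/-- The form used for the classical groups, the centre being of order prime to `p`. -/
theorem le_card_of_center {p t : ℕ} [hp : Fact p.Prime] {X S : Type*} [Group X] [Finite X] [Group S]
    (h : DatC p t S) (e : S ≃* X ⧸ Subgroup.center X) (hpk : ¬ p ∣ Nat.card (Subgroup.center X))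
    {F ι : Type*} [Field F] [Fintype ι] [DecidableEq ι] (hpF : (p : F) ≠ 0) (ρ : X →* Matrix ι ι F)
    (hρ : Function.Injective ρ) : t ≤ Fintype.card ι := by
  refine le_card hp.out ((h.congr e).lift (QuotientGroup.mk' (Subgroup.center X))
    (QuotientGroup.mk'_surjective _) ?_ ?_) hpF ρ hρ
  · rw [QuotientGroup.ker_mk']
  · rwa [QuotientGroup.ker_mk']

theorem le_finrank {X : Type*} [Group X] [Finite X] {p t : ℕ} (hp : p.Prime) (h : DatC p t X) {F V : Type*} [Field F]
    [AddCommGroup V] [Module F V] [FiniteDimensional F V] (hpF : (p : F) ≠ 0)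
    (R : X →* Module.End F V) (hR : Function.Injective R) : t ≤ Module.finrank F V := by
  classical
  let b := Module.finBasis F V
  let ρ : X →* Matrix (Fin (Module.finrank F V)) (Fin (Module.finrank F V)) F :=
    { toFun := fun x => LinearMap.toMatrixAlgEquiv b (R x)
      map_one' := by rw [map_one, map_one]
      map_mul' := fun x y => by rw [map_mul, map_mul] }
  have h1 := le_card hp h hpF ρ fun x y hxy => hR ((LinearMap.toMatrixAlgEquiv b).injective hxy)
  simpa only [_root_.ge_iff_le, _root_.Fintype.card_fin] using h1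

/-- The conjugation action on matrices: the form used for the classical groups in general. -/
theorem le_sq_of_center {p t : ℕ} (hp : p.Prime) {X S : Type*} [Group X] [Finite X] [Group S]
    (h : DatC p t S) (e : S ≃* X ⧸ Subgroup.center X)
    {F ι : Type*} [Field F] [Fintype ι] [DecidableEq ι] (hpF : (p : F) ≠ 0) (ρ : X →* Matrix ι ι F)
    (hρ : Function.Injective ρ) : t ≤ Fintype.card ι * Fintype.card ι := by
  classical
  -- the conjugation action on the span of the image
  let U : Submodule F (Matrix ι ι F) := Submodule.span F (Set.range ρ)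
  have hU : ∀ (x : X) (N : Matrix ι ι F), N ∈ U → ρ x * N * ρ x⁻¹ ∈ U := by
    intro x N hN
    induction hN using Submodule.span_induction with
    | mem N hN =>
      obtain ⟨y, rfl⟩ := hN
      rw [← map_mul, ← map_mul]
      exact Submodule.subset_span ⟨_, rfl⟩
    | zero => rw [mul_zero, zero_mul]; exact U.zero_mem
    | add a b _ _ ha hb => rw [mul_add, add_mul]; exact U.add_mem ha hb
    | smul c a _ ha => rw [mul_smul_comm, smul_mul_assoc]; exact U.smul_mem c ha
  let A : X →* Module.End F U :=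
    { toFun := fun x =>
        { toFun := fun N => ⟨ρ x * N * ρ x⁻¹, hU x N N.2⟩
          map_add' := fun a b => by
            apply Subtype.ext
            simp only [mul_add, add_mul, _root_.Submodule.coe_add, _root_.AddMemClass.mk_add_mk]
          map_smul' := fun c a => by
            apply Subtype.ext
            simp only [_root_.SetLike.val_smul, _root_.Algebra.mul_smul_comm, _root_.Algebra.smul_mul_assoc, _root_.RingHom.id_apply, _root_.SetLike.mk_smul_mk] }
      map_one' := by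
        apply LinearMap.ext
        intro N
        apply Subtype.ext
        change ρ 1 * (N : Matrix ι ι F) * ρ 1⁻¹ = N
        rw [inv_one, map_one, one_mul, mul_one]
      map_mul' := fun x y => by
        apply LinearMap.ext
        intro N
        apply Subtype.ext
        change ρ (x * y) * (N : Matrix ι ι F) * ρ (x * y)⁻¹ = ρ x * (ρ y * N * ρ y⁻¹) * ρ x⁻¹
        rw [mul_inv_rev, map_mul, map_mul]
        simp only [mul_assoc] }
  have hA : ∀ x (N : U), ((A x N : U) : Matrix ι ι F) = ρ x * N * ρ x⁻¹ := fun x N => rfl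
  have hker : A.ker = Subgroup.center X := by
    ext z
    rw [MonoidHom.mem_ker, Subgroup.mem_center_iff]
    constructor
    · intro hz y
      apply hρ
      have h1 := hA z ⟨ρ y, Submodule.subset_span ⟨y, rfl⟩⟩
      rw [hz] at h1
      change ρ y = ρ z * ρ y * ρ z⁻¹ at h1
      rw [map_mul, map_mul]
      have h2 : ρ z⁻¹ * ρ z = 1 := by rw [← map_mul, inv_mul_cancel, map_one]
      calc ρ y * ρ z = ρ z * ρ y * ρ z⁻¹ * ρ z := by rw [← h1]
        _ = ρ z * ρ y * (ρ z⁻¹ * ρ z) := by rw [mul_assoc]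
        _ = ρ z * ρ y := by rw [h2, mul_one]
    · intro hz
      apply LinearMap.ext
      intro N
      apply Subtype.ext
      rw [hA]
      change _ = (N : Matrix ι ι F)
      have h1 : ∀ N ∈ U, ρ z * N = N * ρ z := by
        intro N hN
        induction hN using Submodule.span_induction with
        | mem N hN =>
          obtain ⟨y, rfl⟩ := hN
          rw [← map_mul, ← map_mul, hz y]
        | zero => rw [mul_zero, zero_mul]
        | add a b _ _ ha hb => rw [mul_add, add_mul, ha, hb]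
        | smul c a _ ha => rw [mul_smul_comm, smul_mul_assoc, ha]
      rw [h1 N N.2, mul_assoc, ← map_mul, mul_inv_cancel, map_one, mul_one]
  let B : X ⧸ Subgroup.center X →* Module.End F U :=
    QuotientGroup.lift _ A (fun z hz => by
      have : z ∈ A.ker := by rw [hker]; exact hz
      exact this)
  have hB : Function.Injective B := by
    rw [injective_iff_map_eq_one]
    intro x
    induction x using QuotientGroup.induction_on with
    | H x =>
      intro hx
      rw [QuotientGroup.eq_one_iff]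
      have : x ∈ A.ker := hx
      rwa [hker] at this
  have h1 := le_finrank hp (h.congr e) hpF B hB
  refine h1.trans ?_
  have h2 : Module.finrank F U ≤ Module.finrank F (Matrix ι ι F) := Submodule.finrank_le U
  rw [Module.finrank_matrix, Module.finrank_self, mul_one] at h2
  exact h2



end Cfsg.Agent.H248.OC.Dim
end

-- part: H248/OC/Base
section
/-!
# Groups with one class of nontrivial `p`-elements and abelian Sylow `p`-subgroups: elimination, common part
-/

set_option autoImplicit false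

open Cfsg Subgroup

namespace Cfsg.Agent.H248.OC

open Cfsg.Agent.H634.HypS Cfsg.Agent.H248.OC.Dim Cfsg.Agent.H634.Num Cfsg.Agent.H634.Fus
open Cfsg.Agent.H634.El (not_dvd_center)

/-- One class of nontrivial `p`-elements, abelian Sylow `p`-subgroups of order `p ^ n`. -/
structure HypC (p n : ℕ) (S : Type*) [Group S] : Prop where
  one : OneClass p S
  comm : ∀ Q : Subgroup S, IsPGroup p Q → ∀ a ∈ Q, ∀ b ∈ Q, a * b = b * a
  exp : ∀ x : S, PEl p x → x ^ p = 1
  dvd : p ^ n ∣ Nat.card S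
  max : ¬ p ^ (n + 1) ∣ Nat.card S

namespace HypC

variable {S : Type*} [Group S] {p n : ℕ}

theorem congr [Finite S] [hp : Fact p.Prime] (h : HypC p n S) {T : Type*} [Group T] (e : S ≃* T) :
    HypC p n T := by
  have hfin : Finite T := Finite.of_equiv S e.toEquiv
  have hpel : ∀ x : T, PEl p x → PEl p (e.symm x) := fun x hx => hx.map hp.out e.symm.toMonoidHom
  have hne : ∀ x : T, x ≠ 1 → e.symm x ≠ 1 := fun x hx h0 => hx (by
    rw [← e.apply_symm_apply x, h0, map_one])
  have hcj : ∀ x y : T, IsConj (e.symm x) (e.symm y) → IsConj x y := by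
    intro x y hxy
    have := isConj_map e.toMonoidHom hxy
    simpa only [_root_.isConj_iff, _root_.MulEquiv.toMonoidHom_eq_coe, _root_.MonoidHom.coe_coe, _root_.MulEquiv.apply_symm_apply] using this
  have hcard : Nat.card T = Nat.card S := (Nat.card_congr e.toEquiv).symm
  refine ⟨?_, ?_, ?_, ?_, ?_⟩
  · intro x y hx hx1 hy hy1
    exact hcj _ _ (h.one _ _ (hpel x hx) (hne x hx1) (hpel y hy) (hne y hy1))
  · intro Q hQ a ha b hb
    have h1 := h.comm (Q.map e.symm.toMonoidHom) (hQ.map _) (e.symm a) ⟨a, ha, rfl⟩ (e.symm b)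
      ⟨b, hb, rfl⟩
    apply e.symm.injective
    rw [map_mul, map_mul, h1]
  · intro x hx
    apply e.symm.injective
    rw [map_pow, h.exp _ (hpel x hx), map_one]
  · rw [hcard]; exact h.dvd
  · rw [hcard]; exact h.max

end HypC

/-- The situation of the elimination with the number `t`. -/
structure Sit (p n t : ℕ) (S : Type*) [Group S] : Prop where
  h : HypC p n S
  p3 : 3 ≤ p
  n3 : 3 ≤ n
  ht : t = p ^ n - 1
  dvd : p ^ n * t ∣ Nat.card S
  dat : DatC p t S

/-- Burnside: the normalizer of a Sylow `p`-subgroup is transitive on its nontrivial elements. -/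
theorem trans_of_one {p : ℕ} [hp : Fact p.Prime] {S : Type*} [Group S] [Finite S] (hC : OneClass p S)
    (hcomm : ∀ Q : Subgroup S, IsPGroup p Q → ∀ a ∈ Q, ∀ b ∈ Q, a * b = b * a) (P : Sylow p S)
    {x y : S} (hx : x ∈ P) (hx1 : x ≠ 1) (hy : y ∈ P) (hy1 : y ≠ 1) :
    ∃ g ∈ Subgroup.normalizer ((P : Subgroup S) : Set S), g * x * g⁻¹ = y := by
  obtain ⟨c, hc⟩ := isConj_iff.1 (hC x y (exists_pow_of_mem P.isPGroup' hx) hx1 (exists_pow_of_mem P.isPGroup' hy) hy1)
  have hcm : IsMulCommutative (P : Subgroup S) :=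
    ⟨⟨fun a b => Subtype.ext (hcomm P P.isPGroup' a a.2 b b.2)⟩⟩
  obtain ⟨g, hg, hg1⟩ := P.conj_eq_normalizer_conj_of_mem x c⁻¹ hx (by
    rw [inv_inv, hc]; exact hy)
  refine ⟨g⁻¹, Subgroup.inv_mem _ hg, ?_⟩
  rw [inv_inv, ← hg1, inv_inv, hc]

theorem exists_sit {p n : ℕ} [hp : Fact p.Prime] {S : Type*} [Group S] [Finite S] (hp2 : p ≠ 2) (hn : 3 ≤ n)
    (hC : OneClass p S) (hcomm : ∀ Q : Subgroup S, IsPGroup p Q → ∀ a ∈ Q, ∀ b ∈ Q, a * b = b * a)
    (hcard : ∀ P : Sylow p S, Nat.card P = p ^ n) : Sit p n (p ^ n - 1) S := by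
  classical
  obtain ⟨P⟩ : Nonempty (Sylow p S) := inferInstance
  have hP := hcard P
  have htr := fun {x y} => trans_of_one (x := x) (y := y) hC hcomm P
  have hp1 : 1 < p ^ n := Nat.one_lt_pow (by omega) hp.out.one_lt
  refine ⟨⟨hC, hcomm, fun x hx => pow_eq_one hC hx, ?_, ?_⟩, by have := hp.out.two_le; omega, hn, rfl, ?_, ?_⟩
  · rw [← hP]
    exact Subgroup.card_subgroup_dvd_card _
  · have h1 : Nat.card P = p ^ (Nat.card S).factorization p := P.card_eq_multiplicity
    rw [hP] at h1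
    have h2 := Nat.pow_right_injective hp.out.two_le h1
    intro h3
    have h4 := (hp.out.pow_dvd_iff_le_factorization Nat.card_pos.ne').1 h3
    omega
  · -- the order
    set N := Subgroup.normalizer ((P : Subgroup S) : Set S) with hN
    obtain ⟨⟨x, hx⟩, hx1⟩ : ∃ x : P, x ≠ 1 := by
      have : Nontrivial P := Finite.one_lt_card_iff_nontrivial.1 (by rw [hP]; exact hp1)
      exact exists_ne 1
    have hx1' : x ≠ 1 := fun h => hx1 (Subtype.ext h)
    let C : Subgroup N := (centralizer ({x} : Set S)).subgroupOf N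
    -- the orbit
    have h1 : C.index = p ^ n - 1 := by
      have h2 : Nat.card (N ⧸ C) = Nat.card {y : P // y ≠ 1} := by
        let f : N → {y : P // y ≠ 1} := fun g => ⟨⟨g * x * (g : S)⁻¹, (Subgroup.mem_normalizer_iff.1 g.2 x).1 hx⟩, by
          intro h0
          have h0' : (g : S) * x * (g : S)⁻¹ = 1 := congrArg Subtype.val h0
          exact hx1' (conj_eq_one_iff.1 h0')⟩
        have hf : ∀ a b : N, f a = f b ↔ a⁻¹ * b ∈ C := by
          intro a b
          rw [Subgroup.mem_subgroupOf, Subgroup.mem_centralizer_singleton_iff, Subtype.ext_iff, Subtype.ext_iff]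
          change (a : S) * x * (a : S)⁻¹ = b * x * (b : S)⁻¹ ↔ ((a : S)⁻¹ * b) * x = x * ((a : S)⁻¹ * b)
          constructor
          · intro h0
            have : (a : S)⁻¹ * (b * x * (b : S)⁻¹) * b = (a : S)⁻¹ * (a * x * (a : S)⁻¹) * b := by rw [h0]
            calc ((a : S)⁻¹ * b) * x = (a : S)⁻¹ * (b * x * (b : S)⁻¹) * b := by group
              _ = (a : S)⁻¹ * (a * x * (a : S)⁻¹) * b := this
              _ = _ := by group
          · intro h0
            calc (a : S) * x * (a : S)⁻¹ = a * (x * ((a : S)⁻¹ * b)) * (b : S)⁻¹ := by group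
              _ = a * (((a : S)⁻¹ * b) * x) * (b : S)⁻¹ := by rw [h0]
              _ = _ := by group
        let F : N ⧸ C → {y : P // y ≠ 1} := Quotient.lift f fun a b hab => (hf a b).2 (QuotientGroup.leftRel_apply.1 hab)
        refine Nat.card_congr (Equiv.ofBijective F ⟨?_, ?_⟩)
        · intro a b
          induction a using QuotientGroup.induction_on with
          | H a => induction b using QuotientGroup.induction_on with
            | H b =>
              intro hab
              exact QuotientGroup.eq.2 ((hf a b).1 hab)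
        · rintro ⟨y, hy⟩
          obtain ⟨g, hg, hgy⟩ := htr hx hx1' y.2 (fun h0 => hy (Subtype.ext h0))
          exact ⟨QuotientGroup.mk ⟨g, hg⟩, Subtype.ext (Subtype.ext hgy)⟩
      rw [Subgroup.index, h2, ← hP]
      have := Fintype.ofFinite P
      rw [Nat.card_eq_fintype_card, Nat.card_eq_fintype_card, Fintype.card_subtype_compl, Fintype.card_subtype_eq]
      rfl
    have h2 : p ^ n ∣ Nat.card C := by
      have h3 : (P : Subgroup S).subgroupOf N ≤ C := by
        intro a ha
        rw [Subgroup.mem_subgroupOf] at ha ⊢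
        rw [Subgroup.mem_centralizer_singleton_iff]
        exact hcomm P P.isPGroup' a ha x hx
      have h4 : Nat.card ((P : Subgroup S).subgroupOf N) = p ^ n := by
        rw [← hP]
        exact Nat.card_congr (subgroupOfEquivOfLe Subgroup.le_normalizer).toEquiv
      rw [← h4]
      exact Subgroup.card_dvd_of_le h3
    have h3 : p ^ n * (p ^ n - 1) ∣ Nat.card N := by
      rw [← C.card_mul_index, h1]
      exact Nat.mul_dvd_mul_right h2 _
    exact h3.trans (Subgroup.card_subgroup_dvd_card _)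
  · refine ⟨P, P.isPGroup', ?_, fun a ha b hb => hcomm P P.isPGroup' a ha b hb, ?_, ?_⟩
    · intro h0
      have : Nat.card (P : Subgroup S) = 1 := by rw [h0, Subgroup.card_bot]
      have h1 : Nat.card (P : Subgroup S) = p ^ n := hP
      omega
    · have h1 : Nat.card (P : Subgroup S) = p ^ n := hP
      omega
    · intro x hx hx1 y hy hy1
      obtain ⟨g, hg, hgx⟩ := htr hx hx1 hy hy1
      exact ⟨g, fun z hz => (Subgroup.mem_normalizer_iff.1 hg z).1 hz, hgx⟩

variable {p n t : ℕ} {S : Type*} [Group S]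

namespace Sit

theorem le_of_dvd (s : Sit p n t S) {k : ℕ} (h : p ^ k ∣ Nat.card S) : k ≤ n := by
  by_contra h1
  exact s.h.max ((pow_dvd_pow p (by omega)).trans h)

theorem lt_t (s : Sit p n t S) {m : ℕ} (hm : m ≤ (n + 1) * (p - 1) + 2) : m < t := by
  have := bound s.p3 s.n3
  have h := s.ht
  omega

theorem t_dvd (s : Sit p n t S) : t ∣ Nat.card S := (Dvd.intro_left _ rfl).trans s.dvd

theorem pow_dvd (s : Sit p n t S) : p ^ n ∣ Nat.card S := (Dvd.intro _ rfl).trans s.dvd

end Sit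

/-- Elimination in cross characteristic. -/
theorem Sit.cross [hp : Fact p.Prime] (s : Sit p n t S) {X : Type*} [Group X] [Finite X]
    (e : S ≃* X ⧸ center X) {k : ℕ} (hk : ¬ p ∣ k) (hz : ∀ z ∈ center X, z ^ k = 1) {F ι : Type*} [Field F]
    [Fintype ι] [DecidableEq ι] (hpF : (p : F) ≠ 0) (ρ : X →* Matrix ι ι F) (hρ : Function.Injective ρ)
    (hle : Fintype.card ι ≤ (n + 1) * (p - 1) + 2) : False := by
  have h1 := le_card_of_center s.dat e (not_dvd_center hk hz) hpF ρ hρ
  have h2 := s.lt_t hle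
  omega

/-- The exponent of `p` in the order. -/
theorem Sit.eq_of_card [hp : Fact p.Prime] (s : Sit p n t S) {c B k : ℕ} (h : c * Nat.card S = p ^ k * B)
    (hc : ¬ p ∣ c) (hB : ¬ p ∣ B) : n = k := by
  have hc' : ∀ j, (p ^ j).Coprime c := fun j => Nat.Coprime.pow_left _ ((Nat.Prime.coprime_iff_not_dvd hp.out).2 hc)
  have hB' : ∀ j, (p ^ j).Coprime B := fun j => Nat.Coprime.pow_left _ ((Nat.Prime.coprime_iff_not_dvd hp.out).2 hB)
  apply le_antisymm
  · have h1 : p ^ n ∣ p ^ k * B := h ▸ s.pow_dvd.mul_left c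
    exact (Nat.pow_dvd_pow_iff_le_right hp.out.one_lt).1 ((hB' n).dvd_of_dvd_mul_right h1)
  · have h1 : p ^ k ∣ c * Nat.card S := by
      rw [h]
      exact Dvd.intro _ rfl
    exact s.le_of_dvd ((hc' k).dvd_of_dvd_mul_left h1)

/-- The primitive prime in the order. -/
theorem Sit.exists_prime [hp : Fact p.Prime] (s : Sit p n t S) {c B k : ℕ} (h : c * Nat.card S = p ^ k * B) {d : ℕ}
    (hd : d ∣ n) (hd3 : 3 ≤ d) :
    ∃ r : ℕ, r.Prime ∧ r ∣ B ∧ (∀ m, r ∣ p ^ m - 1 ↔ d ∣ m) ∧ ∀ m, r ∣ p ^ m + 1 → d ∣ 2 * m ∧ ¬ d ∣ m := by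
  have hp3 := s.p3
  obtain ⟨r, hr, h3, h2⟩ := H326.exists_ppd (a := p) (n := d) (by omega) hd3 (by omega)
  have h1 : r ∣ t := by
    rw [s.ht]
    exact (h3 n).2 hd
  refine ⟨r, hr, ?_, h3, fun m hm => ?_⟩
  · have h4 : r ∣ p ^ k * B := h ▸ ((h1.trans s.t_dvd).mul_left c)
    rcases (Nat.Prime.dvd_mul hr).1 h4 with h5 | h5
    · exfalso
      have h6 : r = p := (Nat.prime_dvd_prime_iff_eq hr hp.out).1 (hr.dvd_of_dvd_pow h5)
      subst h6
      have h7 := (h3 d).2 dvd_rfl
      have h8 : r ∣ r ^ d := dvd_pow_self _ (by omega)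
      have h9 : 1 ≤ r ^ d := Nat.one_le_pow _ _ hr.pos
      have h10 := (Nat.dvd_sub h8 h7)
      have h11 : r ^ d - (r ^ d - 1) = 1 := by omega
      rw [h11] at h10
      exact hr.one_lt.ne' (Nat.dvd_one.1 h10)
    · exact h5
  · have h4 : 1 ≤ p ^ m := Nat.one_le_pow _ _ hp.out.pos
    constructor
    · rw [← h3]
      have h5 : p ^ (2 * m) - 1 = (p ^ m + 1) * (p ^ m - 1) := by
        obtain ⟨y, hy⟩ : ∃ y, p ^ m = y + 1 := ⟨p ^ m - 1, by omega⟩
        have h6 : p ^ (2 * m) = (p ^ m) * (p ^ m) := by rw [two_mul, pow_add]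
        rw [h6, hy]
        have h7 : y + 1 - 1 = y := by omega
        rw [h7]
        have h8 : (y + 1) * (y + 1) = (y + 1 + 1) * y + 1 := by ring
        omega
      rw [h5]
      exact hm.mul_right _
    · rw [← h3]
      intro h5
      have h6 := Nat.dvd_sub hm h5
      have h7 : p ^ m + 1 - (p ^ m - 1) = 2 := by omega
      rw [h7] at h6
      have := Nat.le_of_dvd (by norm_num) h6
      omega

end Cfsg.Agent.H248.OC
end

-- part: H248/OC/Heis
section
/-!
# One class of nontrivial `p`-elements: noncommuting elements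
-/

set_option autoImplicit false

open Cfsg Subgroup

namespace Cfsg.Agent.H248.OC

variable {p n t : ℕ} {S : Type*} [Group S]

/-- Sylow `p`-subgroups are abelian. -/
theorem heis_false [hp : Fact p.Prime] (hcomm : ∀ Q : Subgroup S, IsPGroup p Q → ∀ a ∈ Q, ∀ b ∈ Q, a * b = b * a)
    {x y z : S} (hx : x ^ p = 1) (hy : y ^ p = 1)
    (hzx : z * x = x * z) (hzy : z * y = y * z) (hxy : x * y = z * (y * x)) (hz : z ≠ 1) : False := by
  obtain ⟨P, hP, hxP, hyP⟩ := Cfsg.Agent.H42.Tw.exists_pgroup hx hy hzx hzy hxy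
  have h1 := hcomm P hP x hxP y hyP
  rw [hxy] at h1
  exact hz (mul_eq_right.1 h1)

end Cfsg.Agent.H248.OC
end

-- part: H248/OC/GTwo
section
/-!
# One class of nontrivial `p`-elements: `G_2(q)` in characteristic `p`
-/

set_option autoImplicit false

open Cfsg Subgroup

namespace Cfsg.Agent.H248.OC

open Cfsg.Lie Cfsg.Agent.ChevalleyStructure.Elts Cfsg.Agent.H934.HeisChev

theorem hG2 : InList chevG2 := by simp [InList]

theorem ct1 : chevG2.commTerms 6 10 = [(11, 1, 1, 1)] := by decide +kernel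
theorem ct2 : chevG2.commTerms 6 11 = [] := by decide +kernel
theorem ct3 : chevG2.commTerms 10 11 = [] := by decide +kernel

theorem xe_pow {F : Type*} [Field F] (r k : ℕ) (t : F) : xe hG2 r t ^ k = xe hG2 r ((k : F) * t) := by
  induction k with
  | zero => rw [pow_zero, Nat.cast_zero, zero_mul, xe_zero]
  | succ k ih => rw [pow_succ, ih, ← xe_add]; congr 1; push_cast; ring

variable {p n t : ℕ} {S : Type*} [Group S]

theorem g2_char [hp : Fact p.Prime] (hcomm : ∀ Q : Subgroup S, IsPGroup p Q → ∀ a ∈ Q, ∀ b ∈ Q, a * b = b * a)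
    {F : Type} [Field F] [CharP F p] (e : S ≃* ↥(Lie.chevG2.group F)) : False := by
  have hpow : ∀ (r : ℕ) (t : F), xe hG2 r t ^ p = 1 := fun r t => by
    rw [xe_pow, CharP.cast_eq_zero, zero_mul, xe_zero]
  have h11 : 11 < chevG2.nroots := by decide
  have hzx : xe hG2 11 (-1 : F) * xe hG2 10 1 = xe hG2 10 1 * xe hG2 11 (-1) :=
    comm_nil hG2 (by decide) h11 (by decide) (by decide) ct3 _ _
  have hzy : xe hG2 11 (-1 : F) * xe hG2 6 1 = xe hG2 6 1 * xe hG2 11 (-1) :=
    comm_nil hG2 (by decide) h11 (by decide) (by decide) ct2 _ _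
  have hxy : xe hG2 10 (1 : F) * xe hG2 6 1 = xe hG2 11 (-1) * (xe hG2 6 1 * xe hG2 10 1) := by
    rw [comm_single hG2 (by decide) (by decide) (by decide) (by decide) ct1 (1 : F) 1]
    have e1 : (-((1 : ℤ) : F) * 1 * 1) = -1 := by push_cast; ring
    rw [e1, mul_assoc, ← hzx, ← mul_assoc, ← hzy, mul_assoc]
  refine heis_false hcomm (x := e.symm (xe hG2 10 1)) (y := e.symm (xe hG2 6 1)) (z := e.symm (xe hG2 11 (-1)))
    ?_ ?_ ?_ ?_ ?_ ?_
  · rw [← map_pow, hpow, map_one]
  · rw [← map_pow, hpow, map_one]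
  · rw [← map_mul, ← map_mul, hzx]
  · rw [← map_mul, ← map_mul, hzy]
  · rw [← map_mul, ← map_mul, ← map_mul, hxy]
  · intro h0
    have h1 : xe hG2 11 (-1 : F) = 1 := e.symm.injective (h0.trans (map_one _).symm)
    have h2 := xe_eq_one hG2 h11 h1
    exact neg_ne_zero.2 one_ne_zero h2

end Cfsg.Agent.H248.OC
end

-- part: H248/OC/Exc
section
/-!
# One class of nontrivial `p`-elements: the exceptional groups
-/

set_option autoImplicit false

open Cfsg Subgroup

namespace Cfsg.Agent.H248.OC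

open Cfsg.Agent.H634.HypS Cfsg.Agent.H248.OC.Dim Cfsg.Agent.H634.Num Cfsg.Agent.OrdDiv
open Cfsg.Agent.H634.El (not_dvd_center natCast_ne_zero exists_order dvd_sub_one_of_pow dvd_add_one_of_pow
  zmod_ne_zero not_dvd_sub not_dvd_add_one exists_card fermat three nine not_dvd_gcd odd_pow_false five_sq five_add
  add_pow_false exists_pow_of_primePow)

variable {p n t : ℕ} {S : Type*} [Group S]

theorem Sit.small [hp : Fact p.Prime] (s : Sit p n t S) (ht : t ≤ 248) :
    (p = 3 ∧ n = 3 ∧ t = 26) ∨ (p = 3 ∧ n = 4 ∧ t = 80) ∨ (p = 5 ∧ n = 3 ∧ t = 124) ∨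
      (p = 3 ∧ n = 5 ∧ t = 242) := by
  have hp3 := s.p3
  have hn3 := s.n3
  have hs := s.ht
  have h1 : p ^ n ≤ 249 := by
    have : 1 ≤ p ^ n := Nat.one_le_pow _ _ (by omega)
    omega
  have h2 : n < 6 := by
    by_contra h
    have h3 : 3 ^ 6 ≤ p ^ n := (Nat.pow_le_pow_right (by norm_num) (by omega : 6 ≤ n)).trans
      (Nat.pow_le_pow_left hp3 n)
    norm_num at h3
    omega
  have h4 : p < 7 := by
    by_contra h
    have h5 : 7 ^ 3 ≤ p ^ n := (Nat.pow_le_pow_left (by omega : 7 ≤ p) 3).trans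
      (Nat.pow_le_pow_right (by omega) hn3)
    norm_num at h5
    omega
  have hpp := hp.out
  interval_cases n
  · interval_cases p
    · left; exact ⟨rfl, rfl, by omega⟩
    · norm_num at hpp
    · right; right; left; exact ⟨rfl, rfl, by omega⟩
    · norm_num at hpp
  · interval_cases p
    · right; left; exact ⟨rfl, rfl, by omega⟩
    all_goals norm_num at h1
  · interval_cases p
    · right; right; right; exact ⟨rfl, rfl, by omega⟩
    all_goals norm_num at h1

/-- Groups contained in a general linear group. -/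
theorem Sit.le_dim [hp : Fact p.Prime] (s : Sit p n t S) [Finite S] {F ι : Type*} [Field F] [Fintype ι] [DecidableEq ι]
    (hpF : (p : F) ≠ 0) (X : Subgroup (Matrix.GeneralLinearGroup ι F)) (e : S ≃* X) : t ≤ Fintype.card ι := by
  let ρ : S →* Matrix ι ι F := (Units.coeHom (Matrix ι ι F)).comp (X.subtype.comp e.toMonoidHom)
  have hρ : Function.Injective ρ := fun a b hab => e.injective (Subtype.ext (Units.ext hab))
  exact le_card hp.out s.dat hpF ρ hρ

/-- Defining characteristic: the primitive prime of `q ^ N - 1` does not divide the order. -/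
theorem Sit.def_false [hp : Fact p.Prime] (s : Sit p n t S) {q c N B : ℕ} (hq : ∃ f, 1 ≤ f ∧ q = p ^ f)
    (hc : ¬ p ∣ c) (hB : ¬ p ∣ B) (h : c * Nat.card S = q ^ N * B)
    (hr : ∀ r : ℕ, r.Prime → r ∣ B → (∃ k, 1 ≤ k ∧ k < N ∧ r ∣ q ^ k - 1) ∨ (∃ k, 1 ≤ k ∧ 2 * k < N ∧ r ∣ q ^ k + 1)) :
    False := by
  obtain ⟨f, hf1, rfl⟩ := hq
  have h0 : c * Nat.card S = p ^ (f * N) * B := by
    rw [h]
    congr 1
    rw [← pow_mul]
  have hn := s.eq_of_card h0 hc hB
  obtain ⟨r, hr1, h1, h2, h3⟩ := s.exists_prime h0 dvd_rfl s.n3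
  rcases hr r hr1 h1 with ⟨k, hk1, hk, hrk⟩ | ⟨k, hk1, hk, hrk⟩
  · rw [← pow_mul, h2, hn] at hrk
    have := Nat.le_of_dvd (by omega) (Nat.dvd_of_mul_dvd_mul_left (by omega) hrk)
    omega
  · rw [← pow_mul] at hrk
    have h4 := (h3 _ hrk).1
    rw [hn] at h4
    have e1 : 2 * (f * k) = f * (2 * k) := by ring
    rw [e1] at h4
    have := Nat.le_of_dvd (by omega) (Nat.dvd_of_mul_dvd_mul_left (by omega) h4)
    omega

theorem f4_false [hp : Fact p.Prime] [Finite S] (T : OrderTable.{0}) (s : Sit p n t S) {F : Type} [Field F] [Fintype F]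
    (e : S ≃* ↥(Lie.chevF4.group F)) : False := by
  have hcard := T.f4 F _ rfl
  rw [← Nat.card_congr e.toEquiv] at hcard
  set q := Fintype.card F with hq
  have hq1 : 1 < q := Fintype.one_lt_card
  by_cases hpF : p ∣ q
  · obtain ⟨f, hf1, hf, hF⟩ := exists_card hpF
    have hs : ∀ k, 1 ≤ k → ¬ p ∣ q ^ k - 1 := fun k hk => not_dvd_sub hp.out hpF hq1.le hk
    refine s.def_false (q := q) (c := 1) (N := 24) (B := (q ^ 2 - 1) * (q ^ 6 - 1) * (q ^ 8 - 1) * (q ^ 12 - 1))
      ⟨f, hf1, hf⟩ hp.out.not_dvd_one ?_ (by rw [hcard]; ring) ?_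
    swap
    · intro r hr h
      simp only [hr.dvd_mul, or_assoc] at h
      rcases h with h | h | h | h
      all_goals first
        | exact Or.inl ⟨_, by norm_num, by norm_num, h⟩
        | exact Or.inr ⟨_, by norm_num, by norm_num, h⟩
    simp only [hp.out.dvd_mul, not_or]
    exact ⟨⟨⟨hs _ (by norm_num), hs _ (by norm_num)⟩, hs _ (by norm_num)⟩, hs _ (by norm_num)⟩
  · have h1 := s.le_dim (natCast_ne_zero hpF) _ e
    have h2 : Fintype.card Lie.chevF4.Idx = 52 := by
      rw [Fintype.card_sum, Fintype.card_fin, Fintype.card_fin]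
      rfl
    rw [h2] at h1
    rcases s.small (by omega) with ⟨rfl, rfl, -⟩ | h | h | h
    · have h3 : 3 ^ 4 ∣ Nat.card S := by
        rw [hcard]
        have : 1 * 3 * 3 * 3 * 3 ∣ q ^ 24 * (q ^ 2 - 1) * (q ^ 6 - 1) * (q ^ 8 - 1) * (q ^ 12 - 1) := by
          refine Nat.mul_dvd_mul (Nat.mul_dvd_mul (Nat.mul_dvd_mul (Nat.mul_dvd_mul (one_dvd _) ?_) ?_) ?_) ?_
          all_goals exact three hq1.le hpF (by decide)
        exact this
      exact absurd (s.le_of_dvd h3) (by norm_num)
    all_goals omega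

/-- The elimination of `5`: the `5`-part of the order is `a²` or at least `5⁴`. -/
theorem five_false (s : Sit 5 3 t S) {q c A : ℕ} (hq1 : 1 ≤ q) (hc : ¬ 5 ∣ c)
    (h : c * Nat.card S = A * ((q ^ 2 - 1) * (q ^ 6 - 1) * (q ^ 8 - 1) * (q ^ 12 - 1)))
    (hq : ¬ 5 ∣ q) (hA : ¬ 5 ∣ q ^ 2 - 1 → ¬ 5 ∣ A) : False := by
  have h5 : Nat.Prime 5 := by norm_num
  have hc' : ∀ j, (5 ^ j).Coprime c := fun j => Nat.Coprime.pow_left _ ((Nat.Prime.coprime_iff_not_dvd h5).2 hc)
  have hg : ∀ k, (q ^ 2 - 1) ∣ q ^ (2 * k) - 1 := fun k => by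
    have := Nat.sub_dvd_pow_sub_pow (q ^ 2) 1 k
    rwa [one_pow, ← pow_mul] at this
  by_cases h2 : 5 ∣ q ^ 2 - 1
  · have h3 : 5 ^ 4 ∣ c * Nat.card S := by
      rw [h]
      refine Dvd.dvd.mul_left ?_ A
      have : 5 * 5 * 5 * 5 ∣ (q ^ 2 - 1) * (q ^ 6 - 1) * (q ^ 8 - 1) * (q ^ 12 - 1) :=
        Nat.mul_dvd_mul (Nat.mul_dvd_mul (Nat.mul_dvd_mul h2 (h2.trans (hg 3))) (h2.trans (hg 4))) (h2.trans (hg 6))
      exact this
    have := s.le_of_dvd ((hc' 4).dvd_of_dvd_mul_left h3)
    omega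
  · have hA' := hA h2
    have hq4 : 1 ≤ q ^ 4 := Nat.one_le_pow _ _ hq1
    obtain ⟨y, hy⟩ : ∃ y, q ^ 4 = y + 1 := ⟨q ^ 4 - 1, by omega⟩
    have h4 : 5 ∣ y := by
      have := fermat (q := q) (m := 4) h5 hq1 hq (by norm_num)
      rwa [hy, Nat.add_sub_cancel] at this
    have e8 : q ^ 8 - 1 = y * (y + 2) := by
      have : q ^ 8 = (q ^ 4) ^ 2 := by ring
      rw [this, hy]
      have : (y + 1) ^ 2 = y * (y + 2) + 1 := by ring
      omega
    have e12 : q ^ 12 - 1 = y * (y * y + 3 * y + 3) := by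
      have : q ^ 12 = (q ^ 4) ^ 3 := by ring
      rw [this, hy]
      have : (y + 1) ^ 3 = y * (y * y + 3 * y + 3) + 1 := by ring
      omega
    have h6 : ¬ 5 ∣ q ^ 6 - 1 := by
      intro h6
      apply h2
      have h7 := Nat.dvd_sub h6 (h4.mul_left (q ^ 2))
      have h8 : q ^ 6 - 1 - q ^ 2 * y = q ^ 2 - 1 := by
        have : q ^ 6 = q ^ 2 * q ^ 4 := by ring
        rw [this, hy, mul_add, mul_one]
        (clear * -; omega)
      rwa [h8] at h7
    have hu : ¬ 5 ∣ A * (q ^ 2 - 1) * (q ^ 6 - 1) * (y + 2) * (y * y + 3 * y + 3) := by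
      simp only [h5.dvd_mul, not_or]
      refine ⟨⟨⟨⟨hA', h2⟩, h6⟩, fun h => ?_⟩, fun h => ?_⟩
      · have := (Nat.dvd_add_right h4).1 h
        omega
      · have h9 : 5 ∣ y * y + 3 * y := dvd_add (h4.mul_left y) (h4.mul_left 3)
        have := (Nat.dvd_add_right h9).1 h
        (clear * - h h9; omega)
    have h7 : c * Nat.card S = (A * (q ^ 2 - 1) * (q ^ 6 - 1) * (y + 2) * (y * y + 3 * y + 3)) * (y * y) := by
      rw [h, e8, e12]
      ring
    have h8 : 5 ^ 3 ∣ y * y := by
      have h9 : 5 ^ 3 ∣ c * Nat.card S := s.pow_dvd.mul_left c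
      rw [h7] at h9
      exact (Nat.Coprime.pow_left 3 ((Nat.Prime.coprime_iff_not_dvd h5).2 hu)).dvd_of_dvd_mul_left h9
    obtain ⟨z, rfl⟩ := h4
    have h10 : 5 ∣ z := by
      have h11 : 5 * z * (5 * z) = 5 ^ 2 * (z * z) := by ring
      rw [h11, pow_succ] at h8
      have h12 := Nat.dvd_of_mul_dvd_mul_left (by norm_num) h8
      rcases h5.dvd_mul.1 h12 with h | h <;> exact h
    obtain ⟨w, rfl⟩ := h10
    have h11 : 5 ^ 4 ∣ c * Nat.card S := by
      rw [h7]
      refine Dvd.dvd.mul_left ?_ _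
      exact ⟨w * w, by ring⟩
    have := s.le_of_dvd ((hc' 4).dvd_of_dvd_mul_left h11)
    omega

/-- The elimination of `3`. -/
theorem three_false {n : ℕ} (s : Sit 3 n t S) {q c A : ℕ} (hq1 : 1 ≤ q) (hc : c ∣ 3) (hn : n ≤ 4)
    (h : c * Nat.card S = A * ((q ^ 2 - 1) * (q ^ 6 - 1) * (q ^ 8 - 1) * (q ^ 12 - 1))) (hq : ¬ 3 ∣ q) : False := by
  have h3 : 3 ^ 6 ∣ c * Nat.card S := by
    rw [h]
    refine Dvd.dvd.mul_left ?_ A
    have : 3 * 9 * 3 * 9 ∣ (q ^ 2 - 1) * (q ^ 6 - 1) * (q ^ 8 - 1) * (q ^ 12 - 1) :=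
      Nat.mul_dvd_mul (Nat.mul_dvd_mul (Nat.mul_dvd_mul (three hq1 hq (by decide)) (nine hq1 hq (by norm_num)))
        (three hq1 hq (by decide))) (nine hq1 hq (by norm_num))
    exact this
  have h4 : 3 * 3 ^ 5 ∣ 3 * Nat.card S := by
    have : 3 * 3 ^ 5 = 3 ^ 6 := by norm_num
    rw [this]
    exact h3.trans (Nat.mul_dvd_mul_right hc _)
  have := s.le_of_dvd (Nat.dvd_of_mul_dvd_mul_left (by norm_num) h4)
  omega

theorem e6_false [hp : Fact p.Prime] [Finite S] (T : OrderTable.{0}) (s : Sit p n t S) {F : Type} [Field F] [Fintype F]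
    (e : S ≃* ↥(Lie.chevE6.group F)) : False := by
  have hcard := T.e6 F _ rfl
  rw [← Nat.card_congr e.toEquiv] at hcard
  set q := Fintype.card F with hq
  have hq1 : 1 < q := Fintype.one_lt_card
  by_cases hpF : p ∣ q
  · obtain ⟨f, hf1, hf, hF⟩ := exists_card hpF
    have hs : ∀ k, 1 ≤ k → ¬ p ∣ q ^ k - 1 := fun k hk => not_dvd_sub hp.out hpF hq1.le hk
    refine s.def_false (q := q) (N := 36)
      (B := (q ^ 2 - 1) * (q ^ 5 - 1) * (q ^ 6 - 1) * (q ^ 8 - 1) * (q ^ 9 - 1) * (q ^ 12 - 1))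
      ⟨f, hf1, hf⟩ (not_dvd_gcd (a := 3) (b := q - 1) (by simpa only [_root_.pow_one] using hs 1 le_rfl)) ?_ (by rw [hcard]; ring) ?_
    swap
    · intro r hr h
      simp only [hr.dvd_mul, or_assoc] at h
      rcases h with h | h | h | h | h | h
      all_goals first
        | exact Or.inl ⟨_, by norm_num, by norm_num, h⟩
        | exact Or.inr ⟨_, by norm_num, by norm_num, h⟩
    simp only [hp.out.dvd_mul, not_or]
    exact ⟨⟨⟨⟨⟨hs _ (by norm_num), hs _ (by norm_num)⟩, hs _ (by norm_num)⟩, hs _ (by norm_num)⟩, hs _ (by norm_num)⟩,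
      hs _ (by norm_num)⟩
  · have h1 := s.le_dim (natCast_ne_zero hpF) _ e
    have h2 : Fintype.card Lie.chevE6.Idx = 78 := by
      rw [Fintype.card_sum, Fintype.card_fin, Fintype.card_fin]
      rfl
    rw [h2] at h1
    have hcard' : Nat.gcd 3 (q - 1) * Nat.card S = q ^ 36 * (q ^ 5 - 1) * (q ^ 9 - 1) *
        ((q ^ 2 - 1) * (q ^ 6 - 1) * (q ^ 8 - 1) * (q ^ 12 - 1)) := by
      rw [hcard]
      ring
    rcases s.small (by omega) with ⟨rfl, rfl, -⟩ | h | h | h
    · exact three_false s hq1.le (Nat.gcd_dvd_left _ _) (by norm_num) hcard' hpF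
    all_goals omega

theorem te6_false [hp : Fact p.Prime] [Finite S] (T : OrderTable.{0}) (s : Sit p n t S) {F : Type} [Field F] [Fintype F]
    {q : ℕ} (hq : IsPrimePow q) (hF : Fintype.card F = q ^ 2) (e : S ≃* ↥(Lie.twistedE6 F q)) : False := by
  have hcard := T.te6 F q hq hF
  rw [← Nat.card_congr e.toEquiv] at hcard
  have hq1 : 1 < q := hq.one_lt
  by_cases hpF : p ∣ q
  · obtain ⟨f, hf1, hf⟩ := exists_pow_of_primePow hq hpF
    have hs : ∀ k, 1 ≤ k → ¬ p ∣ q ^ k - 1 := fun k hk => not_dvd_sub hp.out hpF hq1.le hk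
    have hs' : ∀ k, 1 ≤ k → ¬ p ∣ q ^ k + 1 := fun k hk => not_dvd_add_one hp.out hpF hk
    refine s.def_false (q := q) (N := 36)
      (B := (q ^ 2 - 1) * (q ^ 5 + 1) * (q ^ 6 - 1) * (q ^ 8 - 1) * (q ^ 9 + 1) * (q ^ 12 - 1))
      ⟨f, hf1, hf⟩ (not_dvd_gcd (a := 3) (b := q + 1) (by simpa using hs' 1 le_rfl)) ?_ (by rw [hcard]; ring) ?_
    swap
    · intro r hr h
      simp only [hr.dvd_mul, or_assoc] at h
      rcases h with h | h | h | h | h | h
      all_goals first
        | exact Or.inl ⟨_, by norm_num, by norm_num, h⟩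
        | exact Or.inr ⟨_, by norm_num, by norm_num, h⟩
    simp only [hp.out.dvd_mul, not_or]
    exact ⟨⟨⟨⟨⟨hs _ (by norm_num), hs' _ (by norm_num)⟩, hs _ (by norm_num)⟩, hs _ (by norm_num)⟩,
      hs' _ (by norm_num)⟩, hs _ (by norm_num)⟩
  · have h1 := s.le_dim (natCast_ne_zero (by rw [hF]; exact fun h => hpF (hp.out.dvd_of_dvd_pow h))) _ e
    have h2 : Fintype.card Lie.chevE6.Idx = 78 := by
      rw [Fintype.card_sum, Fintype.card_fin, Fintype.card_fin]
      rfl
    rw [h2] at h1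
    have hcard' : Nat.gcd 3 (q + 1) * Nat.card S = q ^ 36 * (q ^ 5 + 1) * (q ^ 9 + 1) *
        ((q ^ 2 - 1) * (q ^ 6 - 1) * (q ^ 8 - 1) * (q ^ 12 - 1)) := by
      rw [hcard]
      ring
    rcases s.small (by omega) with ⟨rfl, rfl, -⟩ | h | h | h
    · exact three_false s hq1.le (Nat.gcd_dvd_left _ _) (by norm_num) hcard' hpF
    all_goals omega

theorem td4_false [hp : Fact p.Prime] [Finite S] (T : OrderTable.{0}) (s : Sit p n t S) {F : Type} [Field F] [Fintype F]
    {q : ℕ} (hq : IsPrimePow q) (hF : Fintype.card F = q ^ 3) (e : S ≃* ↥(Lie.twistedD4 F q)) : False := by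
  have hcard := T.td4 F q hq hF
  rw [← Nat.card_congr e.toEquiv] at hcard
  have hq1 : 1 < q := hq.one_lt
  by_cases hpF : p ∣ q
  · obtain ⟨f, hf1, hf⟩ := exists_pow_of_primePow hq hpF
    have hs : ∀ k, 1 ≤ k → ¬ p ∣ q ^ k - 1 := fun k hk => not_dvd_sub hp.out hpF hq1.le hk
    have h0 : 1 * Nat.card S = p ^ (f * 12) * ((q ^ 2 - 1) * (q ^ 6 - 1) * (q ^ 8 + q ^ 4 + 1)) := by
      have h9 : p ^ (f * 12) = q ^ 12 := by rw [hf, ← pow_mul]
      rw [hcard, h9]
      ring
    have hn := s.eq_of_card h0 hp.out.not_dvd_one (by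
      simp only [hp.out.dvd_mul, not_or]
      refine ⟨⟨hs _ (by norm_num), hs _ (by norm_num)⟩, fun h => ?_⟩
      exact hp.out.one_lt.ne' (Nat.dvd_one.1 ((Nat.dvd_add_right (dvd_add (dvd_pow hpF (by norm_num))
        (dvd_pow hpF (by norm_num)))).1 h)))
    have hpn : p ^ n = q ^ 12 := by rw [hn, hf, ← pow_mul]
    have h1 := s.dvd
    rw [s.ht, hpn, hcard, mul_assoc, mul_assoc] at h1
    have h2 := Nat.dvd_of_mul_dvd_mul_left (Nat.pow_pos (by omega)) h1
    obtain ⟨u, hu⟩ : ∃ u, q ^ 2 = u + 1 := ⟨q ^ 2 - 1, by have := Nat.one_le_pow 2 q (by omega); omega⟩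
    have hu3 : 3 ≤ u := by
      have : 2 * 2 ≤ q * q := Nat.mul_le_mul (by omega) (by omega)
      rw [pow_two] at hu
      omega
    have e12 : q ^ 12 - 1 = (u * (u + 2)) * (q ^ 8 + q ^ 4 + 1) := by
      have h3 : q ^ 12 = (q ^ 2) ^ 6 := by ring
      have h4 : q ^ 8 = (q ^ 2) ^ 4 := by ring
      have h5 : q ^ 4 = (q ^ 2) ^ 2 := by ring
      rw [h3, h4, h5, hu]
      have : (u + 1) ^ 6 = (u * (u + 2)) * ((u + 1) ^ 4 + (u + 1) ^ 2 + 1) + 1 := by ring
      omega
    have e6 : q ^ 6 - 1 = (u + 1) ^ 3 - 1 := by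
      have h3 : q ^ 6 = (q ^ 2) ^ 3 := by ring
      rw [h3, hu]
    have e2 : q ^ 2 - 1 = u := by omega
    rw [e12, e6, e2, ← mul_assoc] at h2
    have h3 := Nat.dvd_of_mul_dvd_mul_right (by positivity) h2
    have h4 := Nat.dvd_of_mul_dvd_mul_left (by omega) h3
    have h5 : u + 2 ∣ (u + 1) ^ 3 + 1 := by
      have := Odd.nat_add_dvd_pow_add_pow (u + 1) 1 (n := 3) (by decide)
      rwa [one_pow] at this
    have h6 := Nat.dvd_sub h5 h4
    have h7 : (u + 1) ^ 3 + 1 - ((u + 1) ^ 3 - 1) = 2 := by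
      have := Nat.one_le_pow 3 (u + 1) (by omega)
      (clear * - hu hu3 e2 this; omega)
    rw [h7] at h6
    have := Nat.le_of_dvd (by norm_num) h6
    omega
  · have h1 := s.le_dim (natCast_ne_zero (by rw [hF]; exact fun h => hpF (hp.out.dvd_of_dvd_pow h))) _ e
    have h2 : Fintype.card Lie.chevD4.Idx = 28 := by
      rw [Fintype.card_sum, Fintype.card_fin, Fintype.card_fin]
      rfl
    rw [h2] at h1
    rcases s.small (by omega) with ⟨rfl, rfl, -⟩ | h | h | h
    · have h3 : 3 ^ 4 ∣ Nat.card S := by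
        rw [hcard]
        have h4 : 3 ∣ q ^ 8 + q ^ 4 + 1 := by
          have h5 := three (q := q) (m := 8) hq1.le hpF (by decide)
          have h6 := three (q := q) (m := 4) hq1.le hpF (by decide)
          have h7 : 1 ≤ q ^ 8 := Nat.one_le_pow _ _ hq1.le
          have h8 : 1 ≤ q ^ 4 := Nat.one_le_pow _ _ hq1.le
          omega
        have : 1 * 3 * 9 * 3 ∣ q ^ 12 * (q ^ 2 - 1) * (q ^ 6 - 1) * (q ^ 8 + q ^ 4 + 1) :=
          Nat.mul_dvd_mul (Nat.mul_dvd_mul (Nat.mul_dvd_mul (one_dvd _) (three hq1.le hpF (by decide)))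
            (nine hq1.le hpF (by norm_num))) h4
        exact this
      exact absurd (s.le_of_dvd h3) (by norm_num)
    all_goals omega

theorem e7_false [hp : Fact p.Prime] [Finite S] (T : OrderTable.{0}) (s : Sit p n t S) {F : Type} [Field F] [Fintype F]
    (e : S ≃* ↥(Lie.chevE7.group F)) : False := by
  have hcard := T.e7 F _ rfl
  rw [← Nat.card_congr e.toEquiv] at hcard
  set q := Fintype.card F with hq
  have hq1 : 1 < q := Fintype.one_lt_card
  have hp3 := s.p3
  have hc2 : ¬ p ∣ Nat.gcd 2 (q - 1) := fun h => by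
    have := Nat.le_of_dvd (by norm_num) (h.trans (Nat.gcd_dvd_left _ _))
    omega
  by_cases hpF : p ∣ q
  · obtain ⟨f, hf1, hf, hF⟩ := exists_card hpF
    rw [← hq] at hf
    have hs : ∀ k, 1 ≤ k → ¬ p ∣ q ^ k - 1 := fun k hk => not_dvd_sub hp.out hpF hq1.le hk
    have h0 : Nat.gcd 2 (q - 1) * Nat.card S = p ^ (f * 63) * ((q ^ 2 - 1) * (q ^ 6 - 1) * (q ^ 8 - 1) *
        (q ^ 10 - 1) * (q ^ 12 - 1) * (q ^ 14 - 1) * (q ^ 18 - 1)) := by
      have h9 : p ^ (f * 63) = q ^ 63 := by rw [hf, ← pow_mul]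
      rw [hcard, h9]
      ring
    have hn := s.eq_of_card h0 hc2 (by
      simp only [hp.out.dvd_mul, not_or]
      exact ⟨⟨⟨⟨⟨⟨hs _ (by norm_num), hs _ (by norm_num)⟩, hs _ (by norm_num)⟩, hs _ (by norm_num)⟩,
        hs _ (by norm_num)⟩, hs _ (by norm_num)⟩, hs _ (by norm_num)⟩)
    obtain ⟨r, hr, h1, h2, h3⟩ := s.exists_prime h0 dvd_rfl s.n3
    have hk : ∀ k, 1 ≤ k → k < 63 → ¬ r ∣ q ^ k - 1 := fun k hk1 hk2 h => by
      rw [hf, ← pow_mul, h2, hn] at h
      have := Nat.le_of_dvd (by omega) (Nat.dvd_of_mul_dvd_mul_left (by omega) h)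
      omega
    simp only [hr.dvd_mul] at h1
    rcases h1 with (((((h1 | h1) | h1) | h1) | h1) | h1) | h1
    all_goals exact hk _ (by norm_num) (by norm_num) h1
  · have h1 := s.le_dim (natCast_ne_zero hpF) _ e
    have h2 : Fintype.card Lie.chevE7.Idx = 133 := by
      rw [Fintype.card_sum, Fintype.card_fin, Fintype.card_fin]
      rfl
    rw [h2] at h1
    have hc3 : ∀ j, (p ^ j).Coprime (Nat.gcd 2 (q - 1)) :=
      fun j => Nat.Coprime.pow_left _ ((Nat.Prime.coprime_iff_not_dvd hp.out).2 hc2)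
    have key : p = 3 → 7 ≤ n := fun h3 => by
      subst h3
      have h4 : 3 ^ 7 ∣ Nat.gcd 2 (q - 1) * Nat.card S := by
        rw [hcard]
        have : 1 * 3 * 3 * 3 * 3 * 3 * 3 * 3 ∣ q ^ 63 * (q ^ 2 - 1) * (q ^ 6 - 1) * (q ^ 8 - 1) *
            (q ^ 10 - 1) * (q ^ 12 - 1) * (q ^ 14 - 1) * (q ^ 18 - 1) := by
          refine Nat.mul_dvd_mul (Nat.mul_dvd_mul (Nat.mul_dvd_mul (Nat.mul_dvd_mul (Nat.mul_dvd_mul (Nat.mul_dvd_mul
            (Nat.mul_dvd_mul (one_dvd _) ?_) ?_) ?_) ?_) ?_) ?_) ?_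
          all_goals exact three hq1.le hpF (by decide)
        exact this
      exact s.le_of_dvd ((hc3 7).dvd_of_dvd_mul_left h4)
    rcases s.small (by omega) with ⟨h3, h4, -⟩ | ⟨h3, h4, -⟩ | ⟨rfl, rfl, -⟩ | h
    · have := key h3
      omega
    · have := key h3
      omega
    · refine five_false s hq1.le hc2 (A := q ^ 63 * (q ^ 10 - 1) * (q ^ 14 - 1) * (q ^ 18 - 1)) ?_ hpF (fun h5 => ?_)
      · rw [hcard]
        ring
      · rw [hp.out.dvd_mul, hp.out.dvd_mul, hp.out.dvd_mul, not_or, not_or, not_or]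
        refine ⟨⟨⟨fun h => hpF (hp.out.dvd_of_dvd_pow h), fun h => ?_⟩, fun h => ?_⟩, fun h => ?_⟩
        · exact h5 (odd_pow_false (m := 8) (j := 2) hq1.le (by norm_num) hp.out hpF h)
        · exact h5 (odd_pow_false (m := 12) (j := 2) hq1.le (by norm_num) hp.out hpF h)
        · exact h5 (odd_pow_false (m := 16) (j := 2) hq1.le (by norm_num) hp.out hpF h)
    · omega

theorem e8_false [hp : Fact p.Prime] [Finite S] (T : OrderTable.{0}) (s : Sit p n t S) {F : Type} [Field F] [Fintype F]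
    (e : S ≃* ↥(Lie.chevE8.group F)) : False := by
  have hcard := T.e8 F _ rfl
  rw [← Nat.card_congr e.toEquiv] at hcard
  set q := Fintype.card F with hq
  have hq1 : 1 < q := Fintype.one_lt_card
  by_cases hpF : p ∣ q
  · obtain ⟨f, hf1, hf, hF⟩ := exists_card hpF
    have hs : ∀ k, 1 ≤ k → ¬ p ∣ q ^ k - 1 := fun k hk => not_dvd_sub hp.out hpF hq1.le hk
    refine s.def_false (q := q) (c := 1) (N := 120) (B := (q ^ 2 - 1) * (q ^ 8 - 1) * (q ^ 12 - 1) * (q ^ 14 - 1) *
      (q ^ 18 - 1) * (q ^ 20 - 1) * (q ^ 24 - 1) * (q ^ 30 - 1))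
      ⟨f, hf1, hf⟩ hp.out.not_dvd_one ?_ (by rw [hcard]; ring) ?_
    swap
    · intro r hr h
      simp only [hr.dvd_mul, or_assoc] at h
      rcases h with h | h | h | h | h | h | h | h
      all_goals first
        | exact Or.inl ⟨_, by norm_num, by norm_num, h⟩
        | exact Or.inr ⟨_, by norm_num, by norm_num, h⟩
    simp only [hp.out.dvd_mul, not_or]
    exact ⟨⟨⟨⟨⟨⟨⟨hs _ (by norm_num), hs _ (by norm_num)⟩, hs _ (by norm_num)⟩, hs _ (by norm_num)⟩,
        hs _ (by norm_num)⟩, hs _ (by norm_num)⟩, hs _ (by norm_num)⟩, hs _ (by norm_num)⟩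
  · have h1 := s.le_dim (natCast_ne_zero hpF) _ e
    have h2 : Fintype.card Lie.chevE8.Idx = 248 := by
      rw [Fintype.card_sum, Fintype.card_fin, Fintype.card_fin]
      rfl
    rw [h2] at h1
    have key : p = 3 → 8 ≤ n := fun h3 => by
      subst h3
      have h4 : 3 ^ 8 ∣ Nat.card S := by
        rw [hcard]
        have : 1 * 3 * 3 * 3 * 3 * 3 * 3 * 3 * 3 ∣ q ^ 120 * (q ^ 2 - 1) * (q ^ 8 - 1) * (q ^ 12 - 1) * (q ^ 14 - 1) *
            (q ^ 18 - 1) * (q ^ 20 - 1) * (q ^ 24 - 1) * (q ^ 30 - 1) := by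
          refine Nat.mul_dvd_mul (Nat.mul_dvd_mul (Nat.mul_dvd_mul (Nat.mul_dvd_mul (Nat.mul_dvd_mul (Nat.mul_dvd_mul
            (Nat.mul_dvd_mul (Nat.mul_dvd_mul (one_dvd _) ?_) ?_) ?_) ?_) ?_) ?_) ?_) ?_
          all_goals exact three hq1.le hpF (by decide)
        exact this
      exact s.le_of_dvd h4
    rcases s.small (by omega) with ⟨h3, h4, -⟩ | ⟨h3, h4, -⟩ | ⟨rfl, rfl, -⟩ | ⟨h3, h4, -⟩
    · have := key h3
      omega
    · have := key h3
      omega
    · have h4 : 5 ^ 4 ∣ Nat.card S := by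
        rw [hcard]
        have : 1 * 1 * 5 * 5 * 1 * 1 * 5 * 5 * 1 ∣ q ^ 120 * (q ^ 2 - 1) * (q ^ 8 - 1) * (q ^ 12 - 1) * (q ^ 14 - 1) *
            (q ^ 18 - 1) * (q ^ 20 - 1) * (q ^ 24 - 1) * (q ^ 30 - 1) := by
          refine Nat.mul_dvd_mul (Nat.mul_dvd_mul (Nat.mul_dvd_mul (Nat.mul_dvd_mul (Nat.mul_dvd_mul (Nat.mul_dvd_mul
            (Nat.mul_dvd_mul (Nat.mul_dvd_mul (one_dvd _) (one_dvd _)) ?_) ?_) (one_dvd _)) (one_dvd _)) ?_) ?_) (one_dvd _)
          all_goals exact fermat hp.out hq1.le hpF (by norm_num)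
        exact this
      exact absurd (s.le_of_dvd h4) (by norm_num)
    · have := key h3
      omega

theorem sz_false [hp : Fact p.Prime] [Finite S] (s : Sit p n t S) {F : Type} [Field F] [Fintype F]
    {m : ℕ} (hF : Fintype.card F = 2 ^ (2 * m + 1)) (e : S ≃* ↥(Lie.Sz F (2 ^ (m + 1)))) : False := by
  have hp3 := s.p3
  have hpF : ¬ p ∣ Fintype.card F := by
    rw [hF]
    intro h
    have := Nat.le_of_dvd (by norm_num) (hp.out.dvd_of_dvd_pow h)
    omega
  have h1 := s.le_dim (natCast_ne_zero hpF) _ e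
  rw [Fintype.card_fin] at h1
  rcases s.small (by omega) with h | h | h | h <;> omega

theorem ree_false [hp : Fact p.Prime] [Finite S] (T : OrderTable.{0}) (s : Sit p n t S) {F : Type} [Field F] [Fintype F]
    {m : ℕ} (hm : 1 ≤ m) (hF : Fintype.card F = 3 ^ (2 * m + 1)) (e : S ≃* ↥(Lie.twistedG2 F (3 ^ m))) : False := by
  have hcard := T.ree F m hm hF
  rw [← Nat.card_congr e.toEquiv] at hcard
  by_cases hp3 : p = 3
  · subst hp3
    set q := 3 ^ (2 * m + 1) with hq
    have hq1 : 1 ≤ q := Nat.one_le_pow _ _ (by norm_num)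
    have hpF : 3 ∣ q := dvd_pow_self _ (by omega)
    have h0 : 1 * Nat.card S = 3 ^ ((2 * m + 1) * 3) * ((q ^ 1 - 1) * (q ^ 3 + 1)) := by
      have h9 : 3 ^ ((2 * m + 1) * 3) = q ^ 3 := by rw [hq, ← pow_mul]
      rw [hcard, h9, pow_one]
      ring
    have hn := s.eq_of_card h0 (by norm_num) (by
      simp only [hp.out.dvd_mul, not_or]
      exact ⟨not_dvd_sub hp.out hpF hq1 le_rfl, not_dvd_add_one hp.out hpF (by norm_num)⟩)
    obtain ⟨r, hr, h1, h2, h3⟩ := s.exists_prime h0 dvd_rfl s.n3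
    rcases hr.dvd_mul.1 h1 with h1 | h1
    · rw [pow_one, hq, h2, hn] at h1
      have := Nat.le_of_dvd (by omega) h1
      omega
    · rw [hq, ← pow_mul] at h1
      exact (h3 _ h1).2 (by rw [hn])
  · have hpF : ¬ p ∣ Fintype.card F := by
      rw [hF]
      intro h
      exact hp3 ((Nat.prime_dvd_prime_iff_eq hp.out Nat.prime_three).1 (hp.out.dvd_of_dvd_pow h))
    have h1 := s.le_dim (natCast_ne_zero hpF) _ e
    have h2 : Fintype.card Lie.chevG2.Idx = 14 := by
      rw [Fintype.card_sum, Fintype.card_fin, Fintype.card_fin]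
      rfl
    rw [h2] at h1
    rcases s.small (by omega) with h | h | h | h <;> omega

theorem g2_false [hp : Fact p.Prime] [Finite S] (s : Sit p n t S) {F : Type} [Field F] [Fintype F]
    (e : S ≃* ↥(Lie.chevG2.group F)) : False := by
  by_cases hpF : p ∣ Fintype.card F
  · obtain ⟨f, -, -, hF⟩ := exists_card hpF
    exact g2_char s.h.comm e
  · have h1 := s.le_dim (natCast_ne_zero hpF) _ e
    have h2 : Fintype.card Lie.chevG2.Idx = 14 := by
      rw [Fintype.card_sum, Fintype.card_fin, Fintype.card_fin]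
      rfl
    rw [h2] at h1
    rcases s.small (by omega) with h | h | h | h <;> omega

/-- `²F_4(q)`: only `p = n = 3` is left. -/
theorem tf4_reduce [hp : Fact p.Prime] [Finite S] (s : Sit p n t S) {F : Type} [Field F] [Fintype F]
    {m : ℕ} (hF : Fintype.card F = 2 ^ (2 * m + 1)) (e : S ≃* ↥(Lie.twistedF4 F (2 ^ m))) : p = 3 ∧ n = 3 := by
  have hp3 := s.p3
  have hpF : ¬ p ∣ Fintype.card F := by
    rw [hF]
    intro h
    have := Nat.le_of_dvd (by norm_num) (hp.out.dvd_of_dvd_pow h)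
    omega
  have h1 := s.le_dim (natCast_ne_zero hpF) _ e
  have h2 : Fintype.card Lie.chevF4.Idx = 52 := by
    rw [Fintype.card_sum, Fintype.card_fin, Fintype.card_fin]
    rfl
  rw [h2] at h1
  rcases s.small (by omega) with ⟨rfl, rfl, h⟩ | h | h | h
  · exact ⟨rfl, rfl⟩
  all_goals omega

theorem tf4_false [hp : Fact p.Prime] [Finite S] (s : Sit p n t S) {F : Type} [Field F] [Fintype F]
    {m : ℕ} (hF : Fintype.card F = 2 ^ (2 * m + 1)) (e : S ≃* ↥(Lie.twistedF4 F (2 ^ m))) : False := by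
  obtain ⟨rfl, rfl⟩ := tf4_reduce s hF e
  have h2 : CharP F 2 := by
    have : Fact (Nat.Prime 2) := ⟨Nat.prime_two⟩
    obtain ⟨f, -, -, h⟩ := exists_card (p := 2) (F := F) (by rw [hF]; exact dvd_pow_self _ (by omega))
    exact h
  have h := s.h.congr e
  obtain ⟨P⟩ : Nonempty (Sylow 3 ↥(Lie.twistedF4 F (2 ^ m))) := inferInstance
  refine Cfsg.Agent.H42.Tw.not_abelian_three F (e := 2 ^ m) (by positivity) P
    ⟨⟨fun a b => Subtype.ext (h.comm P P.isPGroup' a a.2 b b.2)⟩⟩

end Cfsg.Agent.H248.OC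
end
end

-- part: H248/OneClass
section
prune_inst 0x54060440062000000000012000000040400009000000000488000400000e22000802840000011040200000100050000000000000200000000000000000000000000020011000000000086000000000000000000000000000000000000000000000000000
set_option linter.all false
open scoped Cfsg.Agent.FastGrp

-- part: H248/OC/SporCheck
section
/-!
# One class of nontrivial `p`-elements: the orders of the sporadic groups
-/

set_option autoImplicit false

open Cfsg Subgroup

namespace Cfsg.Agent.H248.OC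

open Cfsg.Agent.OrdDiv

/-- the primes up to `71` -/
def prs : List ℕ := [2, 3, 5, 7, 11, 13, 17, 19, 23, 29, 31, 37, 41, 43, 47, 53, 59, 61, 67, 71]

/-- exponent of `q` in `N` -/
def vq (q N : ℕ) : ℕ := ((List.range 64).filter fun i => N % q ^ (i + 1) == 0).length

/-- factorization of `N` -/
def fc (N : ℕ) : List (ℕ × ℕ) := prs.map fun q => (q, vq q N)

/-- the check -/
def ok (N : ℕ) (exc : List ℕ) : Bool :=
  ((fc N).map fun x => x.1 ^ x.2).prod == N &&
  (fc N).all fun x => (N % x.1 ^ (x.2 + 1) != 0) && ((exc.any fun y => y == x.1) || (x.1 == 2) || decide (x.2 < 3) ||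
    (N % (x.1 ^ x.2 * (x.1 ^ x.2 - 1)) != 0))

/-- the exceptions -/
def exc : Grp → List ℕ
  | .tits => [3]
  | .ru => [3]
  | .on => [3, 7]
  | .co1 => [5]
  | .ly => [5]
  | .b => [5]
  | .th => [5]
  | _ => []

private noncomputable def _root_.Cfsg.Agent.LsF.f79c770_0 : {f // @Cfsg.Agent.H248.OC.vq = f} := ⟨_, by first | (delta Cfsg.Agent.H248.OC.vq; rewrite [Cfsg.Agent.LsF.nadd_pat, Cfsg.Agent.LsF.nmod_pat, Cfsg.Agent.LsF.npow_pat, Cfsg.Agent.LsF.nbeq_pat, Cfsg.Agent.LsF.filter_eq, Cfsg.Agent.LsF.range_eq, Cfsg.Agent.LsF.length_eq]; exact rfl) | exact rfl⟩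
private noncomputable def _root_.Cfsg.Agent.LsF.f79c770_1 : {f // @Cfsg.Agent.H248.OC.fc = f} := ⟨_, by first | (delta Cfsg.Agent.H248.OC.fc; rewrite [Cfsg.Agent.LsF.f79c770_0.2, Cfsg.Agent.LsF.map_eq]; exact rfl) | exact rfl⟩
private noncomputable def _root_.Cfsg.Agent.LsF.f79c770_2 : {f // @Cfsg.Agent.H248.OC.ok = f} := ⟨_, by first | (delta Cfsg.Agent.H248.OC.ok; rewrite [Cfsg.Agent.LsF.f79c770_1.2, Cfsg.Agent.LsF.nadd_pat, Cfsg.Agent.LsF.nmul_pat, Cfsg.Agent.LsF.nsub_pat, Cfsg.Agent.LsF.nmod_pat, Cfsg.Agent.LsF.npow_pat, Cfsg.Agent.LsF.nbeq_pat, Cfsg.Agent.LsF.nbne_pat, Cfsg.Agent.LsF.and_eq, Cfsg.Agent.LsF.or_eq, Cfsg.Agent.LsF.decLt_eq, Cfsg.Agent.LsF.all_eq, Cfsg.Agent.LsF.any_eq, Cfsg.Agent.LsF.map_eq, Cfsg.Agent.LsF.prod_eq, Cfsg.Agent.LsF.decide_eq]; exact rfl) | exact rfl⟩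
private noncomputable def _root_.Cfsg.Agent.LsF.f79c770_3 : {f // @Cfsg.Agent.H248.OC.exc = f} := ⟨_, by first | (delta Cfsg.Agent.H248.OC.exc; (try delta Cfsg.Agent.H248.OC.exc.match_1); (try delta Cfsg.Agent.H248.OC.exc._sparseCasesOn_1); exact rfl) | exact rfl⟩
theorem ok_spor : ∀ x ∈ spor, ok x.2 (exc x.1) = true := by (refine of_decide_eq_true ?_; (try (rewrite [Cfsg.Agent.LsF.f79c770_2.2, Cfsg.Agent.LsF.f79c770_3.2, Cfsg.Agent.LsF.dBoolEq_eq, Cfsg.Agent.LsF.dBAll_eq, Cfsg.Agent.LsF.decide_eq])); decide +kernel)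

theorem prs_prime : ∀ q ∈ prs, q.Prime := by
  simp only [prs, List.forall_mem_cons]
  norm_num

theorem eq_of_ok {N p n : ℕ} {ex : List ℕ} (h : ok N ex = true) (hp : p.Prime) (hp2 : p ≠ 2) (hn : 3 ≤ n)
    (hd : p ^ n ∣ N)
    (hm : ¬ p ^ (n + 1) ∣ N) (ht : p ^ n * (p ^ n - 1) ∣ N) : p ∈ ex := by
  rw [ok, Bool.and_eq_true, beq_iff_eq, List.all_eq_true] at h
  obtain ⟨h1, h2⟩ := h
  have h3 : p ∣ ((fc N).map fun x => x.1 ^ x.2).prod := by
    rw [h1]
    exact (dvd_pow_self _ (by omega)).trans hd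
  rw [Prime.dvd_prod_iff hp.prime] at h3
  obtain ⟨a, ha, hpa⟩ := h3
  obtain ⟨x, hx, rfl⟩ := List.mem_map.1 ha
  have hxp : x.1.Prime := by
    obtain ⟨q, hq, rfl⟩ := List.mem_map.1 hx
    exact prs_prime q hq
  have h5 : p = x.1 := (Nat.prime_dvd_prime_iff_eq hp hxp).1 (hp.dvd_of_dvd_pow hpa)
  have h6 := h2 x hx
  rw [Bool.and_eq_true, bne_iff_ne] at h6
  obtain ⟨h7, h8⟩ := h6
  have h9 : x.1 ^ x.2 ∣ N := by
    conv_rhs => rw [← h1]
    exact List.dvd_prod ha
  have h10 : n = x.2 := by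
    rw [← h5] at h9 h7
    apply le_antisymm
    · by_contra hlt
      exact h7 (Nat.mod_eq_zero_of_dvd ((pow_dvd_pow p (by omega)).trans hd))
    · by_contra hlt
      exact hm ((pow_dvd_pow p (by omega)).trans h9)
  simp only [Bool.or_eq_true, beq_iff_eq, bne_iff_ne, decide_eq_true_eq, List.any_eq_true] at h8
  rw [← h5, ← h10] at h8
  rcases h8 with ((⟨y, hy, h8⟩ | h8) | h8) | h8
  · exact h8 ▸ hy
  · exact absurd h8 hp2
  · omega
  · exact absurd (Nat.mod_eq_zero_of_dvd ht) h8

end Cfsg.Agent.H248.OC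
end

-- part: H248/OC/RuTits
section
/-!
# One class of nontrivial `p`-elements: the Rudvalis group and the Tits group, `p = 3`
-/

set_option autoImplicit false
set_option maxRecDepth 100000
set_option exponentiation.threshold 5000

open Cfsg Subgroup

namespace Cfsg.Agent.H248.OC

theorem tits_three [Fact (Nat.Prime 3)]
    (hcomm : ∀ Q : Subgroup Lie.TitsGroup, IsPGroup 3 Q → ∀ a ∈ Q, ∀ b ∈ Q, a * b = b * a) : False := by
  obtain ⟨x, y, z, hx, hy, hzx, hzy, hxy, hz1⟩ := Cfsg.Agent.H42.Tw.exists_three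
  have hidx : (commutator ↥(Cfsg.Lie.twistedF4 (ZMod 2) 1)).index = 2 := S1074.result.1
  have hz : z ^ 3 = 1 := H634.El.pow_of_comm hy hzy hxy
  refine heis_false hcomm (x := (⟨x, H634.El.mem_of_cube hidx hx⟩ : Lie.TitsGroup)) (y := ⟨y, H634.El.mem_of_cube hidx hy⟩)
    (z := ⟨z, H634.El.mem_of_cube hidx hz⟩)
    (Subtype.ext ((Subgroup.coe_pow _ _ _).trans hx)) (Subtype.ext ((Subgroup.coe_pow _ _ _).trans hy))
    (Subtype.ext hzx) (Subtype.ext hzy) (Subtype.ext hxy) ?_
  intro h0
  exact hz1 (congrArg Subtype.val h0)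

section Ru

open Cfsg.Agent.SporadicB Cfsg.Agent.RuD.Letters Cfsg.Agent.SporRec.TCUpperCert
  Cfsg.Agent.SporRec.R3.Kernel Cfsg.Agent.KFacts.Ru.ConjWord

/-- an element of order three of the Rudvalis group -/
def xw : List ℕ := [0, 4, 3]
/-- an element of order three of the Rudvalis group -/
def yw : List ℕ := [5, 3, 8, 5, 1, 7, 5, 7, 5]
/-- the commutator -/
def zw : List ℕ := xw ++ yw ++ iw xw ++ iw yw

theorem chk_xyz : chkRel [xw ++ xw ++ xw, yw ++ yw ++ yw, zw ++ xw ++ iw (xw ++ zw), zw ++ yw ++ iw (yw ++ zw)] = true := by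
  decide +kernel

theorem chk_ne : neK zw [] 0 = true := by decide +kernel

theorem ru_three [Fact (Nat.Prime 3)]
    (hcomm : ∀ Q : Subgroup RuOrder.H, IsPGroup 3 Q → ∀ a ∈ Q, ∀ b ∈ Q, a * b = b * a) : False := by
  have h1 := rel_of_chk chk_xyz
  have hx := h1 (xw ++ xw ++ xw) (by simp)
  have hy := h1 (yw ++ yw ++ yw) (by simp)
  have hzx := eq_of (h1 (eqr (zw ++ xw) (xw ++ zw)) (by simp [eqr]))
  have hzy := eq_of (h1 (eqr (zw ++ yw) (yw ++ zw)) (by simp [eqr]))
  have hz := ne_of (p := zw) (q := []) (⟨0, by norm_num⟩ : Fin 4060) chk_ne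
  rw [wprod_append, wprod_append] at hx hy hzx hzy
  rw [wprod_nil] at hz
  refine heis_false hcomm (x := wprod ml xw) (y := wprod ml yw) (z := wprod ml zw) ?_ ?_ hzx hzy ?_ hz
  · rw [pow_succ, pow_two]
    exact hx
  · rw [pow_succ, pow_two]
    exact hy
  · have e : zw = xw ++ yw ++ iw xw ++ iw yw := rfl
    rw [e, wprod_append, wprod_append, wprod_append, wprod_iw, wprod_iw]
    group

end Ru

end Cfsg.Agent.H248.OC
end

-- part: H632/Four/ThFive
section
/-!
# The Sylow 5-subgroups of the Thompson group are not abelian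
-/

set_option autoImplicit false

open Cfsg

namespace Cfsg.Agent.H632.Four

open Cfsg.Agent.H502.ThFiveP Subgroup

theorem card_sup_le_twenty_five {G : Type*} [Group G] {a b : G} (ha : a ^ 5 = 1) (hb : b ^ 5 = 1)
    (hab : a * b = b * a) : Nat.card (zpowers a ⊔ zpowers b : Subgroup G) ≤ 25 := by
  have hc : ∀ (m : zpowers a) (n : zpowers b),
      Commute ((zpowers a).subtype m) ((zpowers b).subtype n) := by
    rintro ⟨m, hm⟩ ⟨n, hn⟩
    obtain ⟨i, rfl⟩ := mem_zpowers_iff.1 hm
    obtain ⟨j, rfl⟩ := mem_zpowers_iff.1 hn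
    exact ((show Commute a b from hab).zpow_left i).zpow_right j
  have h1 : Nat.card (zpowers a) ≤ 5 := by
    rw [Nat.card_zpowers]; exact Nat.le_of_dvd (by norm_num) (orderOf_dvd_of_pow_eq_one ha)
  have h2 : Nat.card (zpowers b) ≤ 5 := by
    rw [Nat.card_zpowers]; exact Nat.le_of_dvd (by norm_num) (orderOf_dvd_of_pow_eq_one hb)
  have f1 : Finite (zpowers a) := by
    refine Nat.finite_of_card_ne_zero ?_
    rw [Nat.card_zpowers]
    exact (orderOf_pos_iff.2 (isOfFinOrder_iff_pow_eq_one.2 ⟨5, by norm_num, ha⟩)).ne'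
  have f2 : Finite (zpowers b) := by
    refine Nat.finite_of_card_ne_zero ?_
    rw [Nat.card_zpowers]
    exact (orderOf_pos_iff.2 (isOfFinOrder_iff_pow_eq_one.2 ⟨5, by norm_num, hb⟩)).ne'
  set f := MonoidHom.noncommCoprod (zpowers a).subtype (zpowers b).subtype hc
  have hr : zpowers a ⊔ zpowers b = f.range := by
    rw [MonoidHom.noncommCoprod_range, Subgroup.range_subtype, Subgroup.range_subtype]
  rw [hr]
  calc Nat.card f.range ≤ Nat.card (zpowers a × zpowers b) :=
        Nat.card_le_card_of_surjective f.rangeRestrict f.rangeRestrict_surjective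
    _ = Nat.card (zpowers a) * Nat.card (zpowers b) := Nat.card_prod _ _
    _ ≤ 5 * 5 := Nat.mul_le_mul h1 h2

theorem z_ne_one : z ≠ 1 := by
  intro hz
  have h := dvd_card
  have hle : P5 ≤ zpowers x ⊔ zpowers y := by
    rw [P5, Subgroup.closure_le]
    rintro g hg
    simp only [Set.mem_insert_iff, Set.mem_singleton_iff] at hg
    rcases hg with rfl | rfl | rfl
    · exact mem_sup_left (mem_zpowers _)
    · exact mem_sup_right (mem_zpowers _)
    · rw [hz]; exact one_mem _
  have hxy : x * y = y * x := by rw [xy, hz, mul_one]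
  have h2 := card_sup_le_twenty_five x5 y5 hxy
  have h3 : Nat.card P5 ≤ 25 := by
    have : Finite Cfsg.Spor.Th := inferInstance
    exact (Subgroup.card_le_of_le hle).trans h2
  have h4 : 0 < Nat.card P5 := Nat.card_pos
  have h5 := Nat.le_of_dvd h4 h
  omega

/-- T7: the Sylow 5-subgroups of `Th` are not abelian -/
theorem th_five [Fact (Nat.Prime 5)] {S : Type*} [Group S] (h : Cfsg.Spor.IsoTh S) :
    ¬ ∀ Q : Subgroup S, IsPGroup 5 Q → ∀ a ∈ Q, ∀ b ∈ Q, a * b = b * a := by
  obtain ⟨e⟩ := h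
  intro hQ
  have h1 := hQ (P5.map e.symm.toMonoidHom) (isPGroup_P5.map _) (e.symm x) ⟨x, x_mem, rfl⟩
    (e.symm y) ⟨y, y_mem, rfl⟩
  rw [← map_mul, ← map_mul] at h1
  have h2 := e.symm.injective h1
  rw [xy] at h2
  exact z_ne_one (mul_left_cancel (h2.trans (mul_one _).symm))

end Cfsg.Agent.H632.Four
end

-- part: H248/OC/Spor
section
/-!
# One class of nontrivial `p`-elements: the sporadic groups and the Tits group
-/

set_option autoImplicit false

open Cfsg Subgroup

namespace Cfsg.Agent.H248.OC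

open Cfsg.Agent.H634.HypS Cfsg.Agent.OrdDiv

variable {p n t : ℕ} {S : Type*} [Group S]

theorem HypC.pcent [Finite S] [hp : Fact p.Prime] (h : HypC p n S) : H573.PCent p S := by
  refine H573.PCent.of_sylow fun x hx => ?_
  obtain ⟨P, hP⟩ := PEl.exists_sylow hx
  exact ⟨P, fun y hy => h.comm P P.isPGroup' y hy x hP⟩

theorem on_seven [Fact (Nat.Prime 7)] (h : HypC 7 n Cfsg.Spor.ON) : False := by
  have hx := H573.Spor.ONSeven.orderOf_wG H573.Spor.ONSeven.seven_X H573.Spor.ONSeven.one_X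
  have hy := H573.Spor.ONSeven.orderOf_wG H573.Spor.ONSeven.seven_Y H573.Spor.ONSeven.one_Y
  obtain ⟨g, hg⟩ := isConj_iff.1 (h.one _ _ ⟨1, by rw [hx, pow_one]⟩ (fun h0 => by
    rw [h0, orderOf_one] at hx
    omega) ⟨1, by rw [hy, pow_one]⟩ (fun h0 => by
    rw [h0, orderOf_one] at hy
    omega))
  exact H573.Spor.ONSeven.not_conj g 1 (by rw [pow_one, hg])

theorem on_card : ∀ x ∈ spor, x.1 = Grp.on → x.2 = 460815505920 := by decide +kernel

theorem spor_known [hp : Fact p.Prime] [Finite S] (s : Sit p n t S) {x : Grp × ℕ} (hx : x ∈ spor)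
    (hr : Real x.1 S) (hc : Nat.card S = x.2) : p = 3 ∧ n = 4 ∧ Cfsg.Spor.IsoON S := by
  have hp3 := s.p3
  have h1 := eq_of_ok (ok_spor x hx) hp.out (by omega) s.n3 (hc ▸ s.pow_dvd) (hc ▸ s.h.max) (by
    have := s.dvd
    rw [s.ht] at this
    exact hc ▸ this)
  have hpow := s.pow_dvd
  have hmax := s.h.max
  obtain ⟨g, N⟩ := x
  dsimp only at h1 hr hc
  cases g
  case tits =>
    exfalso
    obtain ⟨e⟩ := hr
    obtain rfl : p = 3 := by simpa [exc] using h1
    have h9 : HypC 3 n Lie.TitsGroup := s.h.congr e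
    exact tits_three h9.comm
  case ru =>
    exfalso
    obtain ⟨e⟩ := hr
    obtain rfl : p = 3 := by simpa [exc] using h1
    have h9 := s.h.congr (e.trans Cfsg.Agent.RuLat.Main.equiv)
    exact ru_three h9.comm
  case on =>
    rcases (by simpa [exc] using h1 : p = 3 ∨ p = 7) with rfl | rfl
    · refine ⟨rfl, ?_, hr⟩
      have hN : N = 460815505920 := by
        exact on_card _ hx rfl
      rw [hc, hN] at hpow hmax
      apply le_antisymm
      · by_contra hlt
        exact absurd ((pow_dvd_pow 3 (by omega : 5 ≤ n)).trans hpow) (by norm_num)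
      · by_contra hlt
        exact hmax ((pow_dvd_pow 3 (by omega : n + 1 ≤ 4)).trans (by norm_num))
    · exfalso
      obtain ⟨e⟩ := hr
      exact on_seven (s.h.congr e)
  case co1 =>
    exfalso
    obtain rfl : p = 5 := by simpa [exc] using h1
    exact H573.Spor.co1_5 hr s.h.pcent
  case ly =>
    exfalso
    obtain rfl : p = 5 := by simpa [exc] using h1
    exact H573.Spor.ly_5 hr s.h.pcent
  case b =>
    exfalso
    obtain rfl : p = 5 := by simpa [exc] using h1
    exact H573.Spor.b_5 hr s.h.pcent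
  case th =>
    exfalso
    obtain rfl : p = 5 := by simpa [exc] using h1
    exact H632.Four.th_five hr s.h.comm
  all_goals exact absurd h1 (by simp [exc])

end Cfsg.Agent.H248.OC
end

-- part: H248/OC/Alt
section
/-!
# One class of nontrivial `p`-elements: the alternating groups
-/

set_option autoImplicit false

open Cfsg Subgroup

namespace Cfsg.Agent.H248.OC

open Cfsg.Agent.H634.HypS Cfsg.Agent.H634.Num
open Cfsg.Agent.H634.El (exists_cycles)

variable {p n : ℕ} {S : Type*} [Group S]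

theorem alt_false [hp : Fact p.Prime] [Finite S] (h : HypC p n S) (hp2 : p ≠ 2) (hn : 3 ≤ n) {m : ℕ}
    (e : S ≃* alternatingGroup (Fin m)) : False := by
  have h2 := hp.out.two_le
  have hA := h.congr e
  have h3 : 3 * p ≤ m := by
    by_contra hlt
    have hd : p ^ 3 ∣ Nat.card (alternatingGroup (Fin m)) := (pow_dvd_pow p hn).trans hA.dvd
    have hd' : p ^ 3 ∣ m.factorial := by
      have h4 : Nat.card (alternatingGroup (Fin m)) ∣ Nat.card (Equiv.Perm (Fin m)) := Subgroup.card_subgroup_dvd_card _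
      rw [Nat.card_perm, Nat.card_eq_fintype_card, Nat.card_eq_fintype_card, Fintype.card_fin] at h4
      rw [Nat.card_eq_fintype_card] at hd
      exact hd.trans h4
    have hlog : Nat.log p m < 2 := by
      apply Nat.log_lt_of_lt_pow'
      · norm_num
      · rw [pow_two]
        have : 3 * p ≤ p * p := Nat.mul_le_mul_right _ (by omega)
        omega
    rw [Nat.Prime.pow_dvd_factorial_iff hp.out hlog] at hd'
    have h5 : Finset.Ico 1 2 = {1} := rfl
    rw [h5, Finset.sum_singleton, pow_one] at hd'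
    have h6 := (Nat.le_div_iff_mul_le hp.out.pos).1 hd'
    omega
  obtain ⟨x, hx, hxc⟩ := exists_cycles (m := m) hp2 1 (by omega)
  obtain ⟨y, hy, hyc⟩ := exists_cycles (m := m) hp2 2 (by omega)
  have key : ∀ (g : alternatingGroup (Fin m)) (k : ℕ), k ≠ 0 →
      (g : Equiv.Perm (Fin m)).cycleType = Multiset.replicate k p → g ≠ 1 := by
    rintro g k hk hg rfl
    rw [Subgroup.coe_one, Equiv.Perm.cycleType_one] at hg
    have := congrArg Multiset.card hg
    rw [Multiset.card_replicate, Multiset.card_zero] at this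
    omega
  have hc := hA.one x y (PEl.of_pow hx) (key x 1 (by norm_num) hxc) (PEl.of_pow hy) (key y 2 (by norm_num) hyc)
  have h1 := isConj_map (alternatingGroup (Fin m)).subtype hc
  have h2 := Equiv.Perm.isConj_iff_cycleType_eq.1 h1
  have h4 : Multiset.replicate 1 p = Multiset.replicate 2 p := by
    rw [← hxc, ← hyc]
    exact h2
  have := congrArg Multiset.card h4
  rw [Multiset.card_replicate, Multiset.card_replicate] at this
  exact absurd this (by norm_num)

end Cfsg.Agent.H248.OC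
end

-- part: H248/OC/PSL
section
/-!
# One class of nontrivial `p`-elements: `PSL_m(F)`
-/

set_option autoImplicit false

open Cfsg Subgroup

namespace Cfsg.Agent.H248.OC

open Cfsg.Agent.H634.HypS Cfsg.Agent.H248.OC.Dim Cfsg.Agent.H634.Num
open Cfsg.Agent.H634.El (not_dvd_center natCast_ne_zero exists_order dvd_sub_one_of_pow dvd_add_one_of_pow
  zmod_ne_zero not_dvd_sub not_dvd_add_one exists_card prod_fin geom pow_dvd_card sl_center_pow sl_center_pow')

variable {p n t : ℕ} {S : Type*} [Group S]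

theorem sq_bound' {n : ℕ} (hn : 4 ≤ n) : (n + 2) * (n + 2) + 1 < 3 ^ n := by
  induction n, hn using Nat.le_induction with
  | base => norm_num
  | succ n hn ih =>
    rw [pow_succ]
    nlinarith

/-- `m² < t` for `p ∣ m ≤ n + 2`. -/
theorem Sit.bound_sq (s : Sit p n t S) {m : ℕ} (hm0 : 0 < m) (hpm : p ∣ m) (hm : m ≤ n + 2) : m * m < t := by
  have hp := s.p3
  have hn := s.n3
  have ht := s.ht
  rcases Nat.lt_or_ge n 4 with h5 | h5
  · have h3 : n = 3 := by omega
    subst h3
    have h4 := Nat.le_of_dvd hm0 hpm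
    have h6 : p ≤ 5 := by omega
    interval_cases p
    · have h7 : m = 3 := by
        obtain ⟨k, rfl⟩ := hpm
        omega
      subst h7
      omega
    · have h7 : m = 4 := by
        obtain ⟨k, rfl⟩ := hpm
        omega
      subst h7
      omega
    · have h7 : m = 5 := by omega
      subst h7
      omega
  · have h2 := sq_bound' h5
    have h3 : 3 ^ n ≤ p ^ n := Nat.pow_le_pow_left hp n
    have h4 : m * m ≤ (n + 2) * (n + 2) := Nat.mul_le_mul hm hm
    omega

/-- Cross characteristic. -/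
theorem psl_cross [hp : Fact p.Prime] (s : Sit p n t S) {F : Type*} [Field F] [Fintype F] {m : ℕ} (hm : 2 ≤ m)
    (hpF : ¬ p ∣ Fintype.card F) (e : S ≃* Matrix.ProjectiveSpecialLinearGroup (Fin m) F) : False := by
  classical
  set q := Fintype.card F with hq
  have hq1 : 1 < q := Fintype.one_lt_card
  have hcard := S0243.result (q := q) hq.symm m hm
  rw [← Nat.card_congr e.toEquiv, prod_fin] at hcard
  have hp3 := s.p3
  let ρ : Matrix.SpecialLinearGroup (Fin m) F →* Matrix (Fin m) (Fin m) F := slToMat m F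
  have hρ : Function.Injective ρ := fun a b hab => Subtype.ext hab
  have hpF' : (p : F) ≠ 0 := natCast_ne_zero hpF
  obtain ⟨d, hd0, hd, hd1, hd2⟩ := exists_order (zmod_ne_zero hpF)
  by_cases hpq : p ∣ q - 1
  · -- `p` divides `q - 1`
    have h1 : (q - 1) ^ (m - 2) ∣ Nat.card S := by
      refine pow_dvd_card (by omega) hm (Nat.gcd_dvd_right m (q - 1)) hcard fun i => geom _
    have h2 := s.le_of_dvd ((pow_dvd_pow_of_dvd hpq _).trans h1)
    by_cases hpm : p ∣ m
    · have h3 := s.bound_sq (by omega) hpm (by omega)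
      have h4 := le_sq_of_center hp.out s.dat e hpF' ρ hρ
      rw [Fintype.card_fin] at h4
      omega
    · refine s.cross e hpm (fun z hz => sl_center_pow z hz) hpF' ρ hρ ?_
      rw [Fintype.card_fin]
      have h5 : n + 1 ≤ (n + 1) * (p - 1) := Nat.le_mul_of_pos_right _ (by omega)
      omega
  · refine s.cross e hpq (fun z hz => sl_center_pow' (by omega) z hz) hpF' ρ hρ ?_
    rw [Fintype.card_fin]
    have h1 : p ^ (m / d) ∣ ∏ i ∈ Finset.range m, (q ^ (i + 1) - 1) := by
      refine pow_dvd_prod (d := d) (fun j => q ^ j - 1) (fun k _ => ?_) m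
      apply dvd_sub_one_of_pow hq1.le
      rw [pow_mul, hd1, one_pow]
    have h2 : p ^ (m / d) ∣ (Nat.gcd m (q - 1)) * ((q - 1) * Nat.card S) := by
      rw [hcard]
      exact h1.mul_left _
    have h3 : p ^ (m / d) ∣ Nat.card S := by
      have hc : (p ^ (m / d)).Coprime (q - 1) := Nat.Coprime.pow_left _ ((Nat.Prime.coprime_iff_not_dvd hp.out).2 hpq)
      have hc' : (p ^ (m / d)).Coprime (Nat.gcd m (q - 1)) := Nat.Coprime.coprime_dvd_right (Nat.gcd_dvd_right _ _) hc
      exact hc.dvd_of_dvd_mul_left (hc'.dvd_of_dvd_mul_left h2)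
    have h4 := s.le_of_dvd h3
    have h5 : d ≤ p - 1 := Nat.le_of_dvd (by omega) hd
    have h6 : m < (n + 1) * d := (Nat.div_lt_iff_lt_mul hd0).1 (by omega)
    have h7 : (n + 1) * d ≤ (n + 1) * (p - 1) := Nat.mul_le_mul_left _ h5
    omega

/-- `SL_3` in characteristic `p`. -/
theorem sl_three [hp : Fact p.Prime] (s : Sit p n t S) {F : Type*} [Field F] [CharP F p]
    (e : S ≃* Matrix.ProjectiveSpecialLinearGroup (Fin 3) F) : False := by
  classical
  have hp3 := s.p3
  let M : Submonoid (Matrix.SpecialLinearGroup (Fin 3) F) :=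
    { carrier := {A | A.1 1 0 = 0 ∧ A.1 2 0 = 0 ∧ A.1 2 1 = 0 ∧ A.1 0 0 = 1 ∧ A.1 1 1 = 1 ∧ A.1 2 2 = 1}
      one_mem' := by simp only [_root_.Fin.isValue, _root_.Set.mem_ofPred_eq, _root_.Matrix.SpecialLinearGroup.coe_one, _root_.ne_eq, _root_.one_ne_zero, _root_.not_false_eq_true, _root_.Matrix.one_apply_ne, _root_.Fin.reduceEq, _root_.Matrix.one_apply_eq, _root_.and_self]
      mul_mem' := by
        rintro A B ⟨h1, h2, h3, h4, h5, h6⟩ ⟨k1, k2, k3, k4, k5, k6⟩
        simp only [Matrix.mul_apply, Fin.sum_univ_three, h1, h2, h3, h4, h5, h6, k1, k2, k3, k4, k5, k6, _root_.Fin.isValue, _root_.Set.mem_ofPred_eq, _root_.Matrix.SpecialLinearGroup.coe_mul, _root_.mul_one, _root_.MulZeroClass.mul_zero, _root_.add_zero, _root_.MulZeroClass.zero_mul, _root_.zero_add, _root_.and_self] }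
  have hM : ∀ A ∈ M, A ^ p = 1 := by
    rintro A ⟨h1, h2, h3, h4, h5, h6⟩
    apply Subtype.ext
    rw [Matrix.SpecialLinearGroup.coe_pow, Matrix.SpecialLinearGroup.coe_one]
    have h7 : (A.1 - 1) ^ 3 = 0 := by
      ext i j
      fin_cases i <;> fin_cases j <;>
      simp only [pow_succ, Matrix.mul_apply, Fin.sum_univ_three, h1, h2, h3, h4, h5, h6, _root_.Fin.zero_eta, _root_.Fin.isValue, _root_.pow_zero, _root_.one_mul, _root_.Matrix.sub_apply, _root_.Matrix.one_apply_eq, _root_.sub_self, _root_.MulZeroClass.zero_mul, _root_.ne_eq, _root_.zero_ne_one, _root_.not_false_eq_true, _root_.Matrix.one_apply_ne, _root_.sub_zero, _root_.zero_add, _root_.Fin.reduceEq, _root_.one_ne_zero, _root_.MulZeroClass.mul_zero, _root_.add_zero, _root_.Matrix.zero_apply, _root_.Fin.mk_one, _root_.Fin.reduceFinMk, _root_.Finset.sum_const_zero]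
    have h8 : (A.1 - 1) ^ p = 0 := by
      obtain ⟨k, rfl⟩ : ∃ k, p = 3 + k := ⟨p - 3, by omega⟩
      rw [pow_add, h7, zero_mul]
    have h9 : A.1 = (A.1 - 1) + 1 := by rw [sub_add_cancel]
    rw [h9, add_pow_char_of_commute _ (Commute.one_right _), h8, one_pow, zero_add]
  let U : Subgroup (Matrix.SpecialLinearGroup (Fin 3) F) :=
    { M with
      inv_mem' := by
        intro A hA
        have h1 : A⁻¹ = A ^ (p - 1) := by
          rw [inv_eq_iff_mul_eq_one, ← pow_succ']
          have h2 : p - 1 + 1 = p := by omega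
          rw [h2]
          exact hM A hA
        change A⁻¹ ∈ M
        rw [h1]
        exact M.pow_mem hA _ }
  have hU : IsPGroup p U := fun A => ⟨1, by
    rw [pow_one]
    exact Subtype.ext (hM A.1 A.2)⟩
  let x : Matrix.SpecialLinearGroup (Fin 3) F := ⟨!![1, 1, 0; 0, 1, 0; 0, 0, 1], by simp [Matrix.det_fin_three]⟩
  let y : Matrix.SpecialLinearGroup (Fin 3) F := ⟨!![1, 0, 0; 0, 1, 1; 0, 0, 1], by simp [Matrix.det_fin_three]⟩
  have hx : x ∈ U := by
    change _ ∧ _
    simp [x]
  have hy : y ∈ U := by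
    change _ ∧ _
    simp [y]
  let π : Matrix.SpecialLinearGroup (Fin 3) F →* S :=
    e.symm.toMonoidHom.comp (QuotientGroup.mk' (center (Matrix.SpecialLinearGroup (Fin 3) F)))
  have h1 := s.h.comm (U.map π) (hU.map π) (π x) ⟨x, hx, rfl⟩ (π y) ⟨y, hy, rfl⟩
  rw [← map_mul, ← map_mul] at h1
  have h2 := e.symm.injective h1
  have h3 : (x * y)⁻¹ * (y * x) ∈ center (Matrix.SpecialLinearGroup (Fin 3) F) := QuotientGroup.eq.1 h2
  obtain ⟨r, -, h4⟩ := Matrix.SpecialLinearGroup.mem_center_iff.1 h3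
  have h5 : (x * y).1 * Matrix.scalar (Fin 3) r = (y * x).1 := by
    rw [h4, ← Matrix.SpecialLinearGroup.coe_mul, mul_inv_cancel_left]
  rw [Matrix.SpecialLinearGroup.coe_mul, Matrix.SpecialLinearGroup.coe_mul] at h5
  have h6 := congrFun (congrFun h5 0) 0
  have h7 := congrFun (congrFun h5 0) 2
  simp [x, y, Matrix.mul_apply, Fin.sum_univ_three] at h6 h7
  rw [h6] at h7
  exact one_ne_zero h7

/-- Defining characteristic. -/
theorem psl_defining [hp : Fact p.Prime] (s : Sit p n t S) {F : Type*} [Field F] [Fintype F] {m : ℕ} (hm : 2 ≤ m)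
    (hpF : p ∣ Fintype.card F) (e : S ≃* Matrix.ProjectiveSpecialLinearGroup (Fin m) F) :
    m = 2 ∧ Fintype.card F = p ^ n := by
  obtain ⟨f, hf1, hf, hF⟩ := exists_card hpF
  set q := Fintype.card F with hq
  have hq1 : 1 < q := Fintype.one_lt_card
  have hcard := S0243.result (q := q) hq.symm m hm
  rw [← Nat.card_congr e.toEquiv, prod_fin] at hcard
  have hs : ∀ k, 1 ≤ k → ¬ p ∣ q ^ k - 1 := fun k hk => not_dvd_sub hp.out hpF hq1.le hk
  have hs1 : ¬ p ∣ q - 1 := by simpa only [_root_.pow_one] using hs 1 le_rfl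
  have hc : ¬ p ∣ Nat.gcd m (q - 1) * (q - 1) := by
    intro h
    rcases (Nat.Prime.dvd_mul hp.out).1 h with h | h
    · exact hs1 (h.trans (Nat.gcd_dvd_right _ _))
    · exact hs1 h
  have hB : ¬ p ∣ ∏ i ∈ Finset.range m, (q ^ (i + 1) - 1) := by
    rw [Prime.dvd_finsetProd_iff hp.out.prime]
    rintro ⟨i, -, h⟩
    exact hs _ (by omega) h
  have h0 : Nat.gcd m (q - 1) * (q - 1) * Nat.card S =
      p ^ (f * (m * (m - 1) / 2)) * ∏ i ∈ Finset.range m, (q ^ (i + 1) - 1) := by
    rw [mul_assoc, hcard, hf, ← pow_mul]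
  have hn := s.eq_of_card h0 hc hB
  obtain ⟨r, hr, h1, h2, h3⟩ := s.exists_prime h0 dvd_rfl s.n3
  rw [Prime.dvd_finsetProd_iff hr.prime] at h1
  obtain ⟨i, hi, h4⟩ := h1
  rw [Finset.mem_range] at hi
  rw [hf, ← pow_mul, h2, hn] at h4
  have h5 : m * (m - 1) / 2 ∣ i + 1 := Nat.dvd_of_mul_dvd_mul_left (by omega) h4
  have h6 := Nat.le_of_dvd (by omega) h5
  have h7 : m ≤ 3 := by
    by_contra h8
    have h9 : m * 3 ≤ m * (m - 1) := Nat.mul_le_mul_left _ (by omega)
    omega
  rcases (by omega : m = 2 ∨ m = 3) with rfl | rfl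
  · refine ⟨rfl, ?_⟩
    rw [hf, hn]
    norm_num
  · exact (sl_three s e).elim

end Cfsg.Agent.H248.OC
end

-- part: H248/OC/PSU
section
/-!
# One class of nontrivial `p`-elements: `PSU_m(q)`
-/

set_option autoImplicit false

open Cfsg Subgroup

namespace Cfsg.Agent.H248.OC

open Cfsg.Agent.H634.HypS Cfsg.Agent.H248.OC.Dim Cfsg.Agent.H634.Num Cfsg.Agent.LieClassical.SUBasic
open Cfsg.Agent.H634.El (not_dvd_center natCast_ne_zero exists_order dvd_sub_one_of_pow dvd_add_one_of_pow
  zmod_ne_zero not_dvd_sub not_dvd_add_one exists_card geom_add pow_dvd_card su_center_pow)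

variable {p n t : ℕ} {S : Type*} [Group S]

/-- Cross characteristic. -/
theorem psu_cross [hp : Fact p.Prime] (s : Sit p n t S) {F : Type*} [Field F] [Fintype F] {m q : ℕ} (hm : 3 ≤ m)
    (hF : Fintype.card F = q ^ 2) (hpF : ¬ p ∣ q) (e : S ≃* PSU m F q) : False := by
  classical
  have hq1 : 1 ≤ q := by
    have := Fintype.one_lt_card (α := F)
    rw [hF] at this
    by_contra h
    have h0 : q = 0 := by omega
    rw [h0] at this
    norm_num at this
  have hcard := S0280.result hF m (by omega)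
  rw [← Nat.card_congr e.toEquiv] at hcard
  have hp3 := s.p3
  let ρ : SU m F q →* Matrix (Fin m) (Fin m) F := (slToMat m F).comp (SU m F q).subtype
  have hρ : Function.Injective ρ := fun a b hab => Subtype.ext (Subtype.ext hab)
  have hpF' : (p : F) ≠ 0 := natCast_ne_zero (by
    rw [hF]
    exact fun h => hpF (hp.out.dvd_of_dvd_pow h))
  have hq0 : (-(q : ZMod p)) ≠ 0 := neg_ne_zero.2 (zmod_ne_zero hpF)
  obtain ⟨d, hd0, hd, hd1, hd2⟩ := exists_order hq0
  by_cases hpq : p ∣ q + 1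
  · -- `p` divides `q + 1`
    have h1 : (q + 1) ^ (m - 2) ∣ Nat.card S := by
      refine pow_dvd_card (by omega) (by omega) (Nat.gcd_dvd_right m (q + 1)) hcard fun i => geom_add q _
    have h2 := s.le_of_dvd ((pow_dvd_pow_of_dvd hpq _).trans h1)
    by_cases hpm : p ∣ m
    · have h3 := s.bound_sq (by omega) hpm (by omega)
      have h4 := le_sq_of_center hp.out s.dat e hpF' ρ hρ
      rw [Fintype.card_fin] at h4
      omega
    · refine s.cross e hpm (fun z hz => ?_) hpF' ρ hρ ?_
      · obtain ⟨c, hcn, hcq, rfl⟩ := (mem_center_SU_iff hF hm z).1 hz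
        exact su_center_pow hcn hcq hcn
      rw [Fintype.card_fin]
      have h5 : n + 1 ≤ (n + 1) * (p - 1) := Nat.le_mul_of_pos_right _ (by omega)
      omega
  · refine s.cross e hpq (fun z hz => ?_) hpF' ρ hρ ?_
    · obtain ⟨c, hcn, hcq, rfl⟩ := (mem_center_SU_iff hF hm z).1 hz
      exact su_center_pow hcn hcq hcq
    rw [Fintype.card_fin]
    have h1 : p ^ (m / d) ∣ ∏ i ∈ Finset.range m, (if Even i then q ^ (i + 1) + 1 else q ^ (i + 1) - 1) := by
      have h0 := pow_dvd_prod (p := p) (d := d) (fun j => if Even j then q ^ j - 1 else q ^ j + 1) (fun k _ => ?_) m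
      · refine h0.trans (dvd_of_eq (Finset.prod_congr rfl fun i _ => ?_))
        by_cases hi : Even i
        · rw [if_pos hi, if_neg (Nat.not_even_iff_odd.2 hi.add_one)]
        · rw [if_neg hi, if_pos (Nat.not_even_iff_odd.1 hi).add_one]
      · have h9 : (-(q : ZMod p)) ^ (d * k) = 1 := by rw [pow_mul, hd1, one_pow]
        split_ifs with hi
        · apply dvd_sub_one_of_pow hq1
          rwa [hi.neg_pow] at h9
        · apply dvd_add_one_of_pow
          rw [(Nat.not_even_iff_odd.1 hi).neg_pow] at h9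
          rw [← h9, neg_neg]
    have h2 : p ^ (m / d) ∣ (Nat.gcd m (q + 1)) * ((q + 1) * Nat.card S) := by
      rw [hcard]
      exact h1.mul_left _
    have h3 : p ^ (m / d) ∣ Nat.card S := by
      have hc : (p ^ (m / d)).Coprime (q + 1) := Nat.Coprime.pow_left _ ((Nat.Prime.coprime_iff_not_dvd hp.out).2 hpq)
      have hc' : (p ^ (m / d)).Coprime (Nat.gcd m (q + 1)) := Nat.Coprime.coprime_dvd_right (Nat.gcd_dvd_right _ _) hc
      exact hc.dvd_of_dvd_mul_left (hc'.dvd_of_dvd_mul_left h2)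
    have h4 := s.le_of_dvd h3
    have h5 : d ≤ p - 1 := Nat.le_of_dvd (by omega) hd
    have h6 : m < (n + 1) * d := (Nat.div_lt_iff_lt_mul hd0).1 (by omega)
    have h7 : (n + 1) * d ≤ (n + 1) * (p - 1) := Nat.mul_le_mul_left _ h5
    omega

/-- Defining characteristic. -/
theorem psu_defining [hp : Fact p.Prime] (s : Sit p n t S) {F : Type*} [Field F] [Fintype F] {m q : ℕ} (hm : 3 ≤ m)
    (hF : Fintype.card F = q ^ 2) (hpF : p ∣ q) (e : S ≃* PSU m F q) : False := by
  have hq1 : 1 < q := by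
    have := Fintype.one_lt_card (α := F)
    rw [hF] at this
    by_contra h
    interval_cases q <;> omega
  obtain ⟨f, hf⟩ : ∃ f, q = p ^ f := by
    obtain ⟨f, -, hf, -⟩ := exists_card (p := p) (F := F) (by rw [hF]; exact dvd_pow hpF two_ne_zero)
    have h1 : q ∣ p ^ f := by
      rw [← hf, hF]
      exact dvd_pow_self _ two_ne_zero
    obtain ⟨k, -, hk⟩ := (Nat.dvd_prime_pow hp.out).1 h1
    exact ⟨k, hk⟩
  have hf1 : 1 ≤ f := by
    by_contra h
    have h0 : f = 0 := by omega
    rw [hf, h0, pow_zero] at hq1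
    omega
  have hcard := S0280.result hF m (by omega)
  rw [← Nat.card_congr e.toEquiv] at hcard
  have hs1 : ¬ p ∣ q + 1 := by simpa using not_dvd_add_one hp.out hpF (le_refl 1)
  have hc : ¬ p ∣ Nat.gcd m (q + 1) * (q + 1) := by
    intro h
    rcases (Nat.Prime.dvd_mul hp.out).1 h with h | h
    · exact hs1 (h.trans (Nat.gcd_dvd_right _ _))
    · exact hs1 h
  have hB : ¬ p ∣ ∏ i ∈ Finset.range m, (if Even i then q ^ (i + 1) + 1 else q ^ (i + 1) - 1) := by
    rw [Prime.dvd_finsetProd_iff hp.out.prime]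
    rintro ⟨i, -, h⟩
    split_ifs at h
    · exact not_dvd_add_one hp.out hpF (by omega) h
    · exact not_dvd_sub hp.out hpF hq1.le (by omega) h
  have h0 : Nat.gcd m (q + 1) * (q + 1) * Nat.card S =
      p ^ (f * (m * (m - 1) / 2)) * ∏ i ∈ Finset.range m, (if Even i then q ^ (i + 1) + 1 else q ^ (i + 1) - 1) := by
    rw [mul_assoc, hcard]
    congr 1
    rw [hf, ← pow_mul]
  have hn := s.eq_of_card h0 hc hB
  have key : ∀ d, d ∣ m * (m - 1) / 2 → 3 ≤ f * d → ∃ i < m, (Even i ∧ d ∣ 2 * (i + 1) ∧ ¬ d ∣ i + 1) ∨ (¬ Even i ∧ d ∣ i + 1) := by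
    intro d hd hd3
    obtain ⟨r, hr, h1, h2, h3⟩ := s.exists_prime h0 (d := f * d) (by rw [hn]; exact Nat.mul_dvd_mul_left _ hd) hd3
    rw [Prime.dvd_finsetProd_iff hr.prime] at h1
    obtain ⟨i, hi, h4⟩ := h1
    rw [Finset.mem_range] at hi
    refine ⟨i, hi, ?_⟩
    split_ifs at h4 with he
    · left
      rw [hf, ← pow_mul] at h4
      obtain ⟨h5, h6⟩ := h3 _ h4
      refine ⟨he, Nat.dvd_of_mul_dvd_mul_left hf1 ?_, fun h => h6 (Nat.mul_dvd_mul_left _ h)⟩
      have e1 : f * (2 * (i + 1)) = 2 * (f * (i + 1)) := by ring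
      rwa [e1]
    · right
      rw [hf, ← pow_mul, h2] at h4
      exact ⟨he, Nat.dvd_of_mul_dvd_mul_left hf1 h4⟩
  have hn3 := s.n3
  obtain ⟨i, hi, h5⟩ := key _ dvd_rfl (by rw [← hn]; exact hn3)
  have h7 : m ≤ 5 := by
    by_contra h8
    have h9 : m * 5 ≤ m * (m - 1) := Nat.mul_le_mul_left _ (by omega)
    rcases h5 with ⟨-, h5, -⟩ | ⟨-, h5⟩
    · have := Nat.le_of_dvd (by omega) h5
      omega
    · have := Nat.le_of_dvd (by omega) h5
      omega
  rcases (by omega : m = 3 ∨ m = 4 ∨ m = 5) with rfl | rfl | rfl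
  · norm_num only [_root_.Nat.not_even_iff_odd] at h5
    interval_cases i <;> simp_all (config := {decide := true}) only [_root_.Nat.add_one_sub_one, _root_.Nat.reduceMul, _root_.Nat.reduceDiv, _root_.dvd_pow_self_iff, _root_.ne_eq, _root_.isUnit_iff_eq_one, _root_.le_mul_iff_one_le_left, _root_.Nat.not_even_iff_odd, _root_.Nat.ofNat_pos]
  · obtain ⟨j, hj, h6⟩ := key 3 (by norm_num) (by omega)
    interval_cases j <;> revert h6 <;> decide
  · obtain ⟨j, hj, h6⟩ := key 5 (by norm_num) (by omega)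
    interval_cases j <;> revert h6 <;> decide

end Cfsg.Agent.H248.OC
end

-- part: H248/OC/PSp
section
/-!
# One class of nontrivial `p`-elements: `PSp`, `POmega`
-/

set_option autoImplicit false

open Cfsg Subgroup

namespace Cfsg.Agent.H248.OC

open Cfsg.Agent.H634.HypS Cfsg.Agent.H248.OC.Dim Cfsg.Agent.H634.Num QuadraticMap Cfsg.Agent.LieClassical.QuadForms
  Cfsg.Agent.LieClassical.OmegaReindex Cfsg.Agent.LieClassical.PomegaCard
open Cfsg.Agent.H634.El (not_dvd_center natCast_ne_zero exists_order dvd_sub_one_of_pow dvd_add_one_of_pow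
  zmod_ne_zero not_dvd_sub not_dvd_add_one exists_card gcd_four)

variable {p n t : ℕ} {S : Type*} [Group S]

section Four

variable {F : Type*} [Field F]

/-- the diagonal blocks -/
def xM (F : Type*) [Field F] : Matrix (Fin 2 ⊕ Fin 2) (Fin 2 ⊕ Fin 2) F :=
  Matrix.fromBlocks !![1, 1; 0, 1] 0 0 !![1, 0; -1, 1]

/-- the off-diagonal block -/
def yM (F : Type*) [Field F] (a b d : F) : Matrix (Fin 2 ⊕ Fin 2) (Fin 2 ⊕ Fin 2) F :=
  Matrix.fromBlocks 1 !![a, b; b, d] 0 1

/-- the lower off-diagonal block -/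
def wM (F : Type*) [Field F] : Matrix (Fin 2 ⊕ Fin 2) (Fin 2 ⊕ Fin 2) F :=
  Matrix.fromBlocks 1 0 !![1, 0; 0, 0] 1

theorem xM_mem : xM F ∈ Matrix.symplecticGroup (Fin 2) F := by
  rw [SymplecticGroup.mem_iff, Matrix.J, xM, Matrix.fromBlocks_transpose, Matrix.fromBlocks_multiply,
    Matrix.fromBlocks_multiply]
  congr 1 <;> (ext i j; fin_cases i <;> fin_cases j <;> simp [Matrix.vecMul, dotProduct])

theorem yM_mem (a b d : F) : yM F a b d ∈ Matrix.symplecticGroup (Fin 2) F := by
  rw [SymplecticGroup.mem_iff, Matrix.J, yM, Matrix.fromBlocks_transpose, Matrix.fromBlocks_multiply,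
    Matrix.fromBlocks_multiply]
  congr 1 <;> (ext i j; fin_cases i <;> fin_cases j <;> simp [Matrix.vecMul, dotProduct])

theorem wM_mem : wM F ∈ Matrix.symplecticGroup (Fin 2) F := by
  rw [SymplecticGroup.mem_iff, Matrix.J, wM, Matrix.fromBlocks_transpose, Matrix.fromBlocks_multiply,
    Matrix.fromBlocks_multiply]
  congr 1 <;> (ext i j; fin_cases i <;> fin_cases j <;> simp [Matrix.vecMul, dotProduct])

theorem pow_of_sq {ι : Type*} [Fintype ι] [DecidableEq ι] [Nonempty ι] {p : ℕ} [Fact p.Prime] [CharP F p] {M N : Matrix ι ι F}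
    (hM : M = N + 1) (h : N * N = 0) (hp2 : 2 ≤ p) : M ^ p = 1 := by
  have h8 : N ^ p = 0 := by
    obtain ⟨k, rfl⟩ : ∃ k, p = 2 + k := ⟨p - 2, by omega⟩
    rw [pow_add, pow_two, h, zero_mul]
  rw [hM, add_pow_char_of_commute _ (Commute.one_right _), h8, one_pow, zero_add]

theorem xM_pow {p : ℕ} [Fact p.Prime] [CharP F p] (hp2 : 2 ≤ p) : xM F ^ p = 1 := by
  refine pow_of_sq (N := Matrix.fromBlocks !![0, 1; 0, 0] 0 0 !![0, 0; -1, 0]) ?_ ?_ hp2
  · rw [xM, ← Matrix.fromBlocks_one, Matrix.fromBlocks_add]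
    congr 1 <;> (ext i j; fin_cases i <;> fin_cases j <;> simp)
  · rw [Matrix.fromBlocks_multiply, ← Matrix.fromBlocks_zero]
    congr 1 <;> (ext i j; fin_cases i <;> fin_cases j <;> simp)

theorem yM_pow {p : ℕ} [Fact p.Prime] [CharP F p] (hp2 : 2 ≤ p) (a b d : F) : yM F a b d ^ p = 1 := by
  refine pow_of_sq (N := Matrix.fromBlocks 0 !![a, b; b, d] 0 0) ?_ ?_ hp2
  · rw [yM, ← Matrix.fromBlocks_one, Matrix.fromBlocks_add]
    congr 1 <;> (ext i j; (revert i j; simp [_root_.Fin.forall_fin_succ]))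
  · rw [Matrix.fromBlocks_multiply, ← Matrix.fromBlocks_zero]
    congr 1 <;> (ext i j; (revert i j; simp [_root_.Fin.forall_fin_succ]))

theorem xy_eq : xM F * yM F 0 1 0 = yM F 2 0 0 * (yM F 0 1 0 * xM F) := by
  rw [xM, yM, yM, Matrix.fromBlocks_multiply, Matrix.fromBlocks_multiply, Matrix.fromBlocks_multiply]
  congr 1 <;> (ext i j; fin_cases i <;> fin_cases j <;> simp <;> ring)

theorem zx_eq : yM F 2 0 0 * xM F = xM F * yM F 2 0 0 := by
  rw [xM, yM, Matrix.fromBlocks_multiply, Matrix.fromBlocks_multiply]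
  congr 1 <;> (ext i j; fin_cases i <;> fin_cases j <;> simp)

theorem zy_eq : yM F 2 0 0 * yM F 0 1 0 = yM F 0 1 0 * yM F 2 0 0 := by
  rw [yM, yM, Matrix.fromBlocks_multiply, Matrix.fromBlocks_multiply]
  congr 1 <;> (ext i j; fin_cases i <;> fin_cases j <;> simp)

theorem zw_ne (h2 : (2 : F) ≠ 0) : yM F 2 0 0 * wM F ≠ wM F * yM F 2 0 0 := by
  intro h
  rw [wM, yM, Matrix.fromBlocks_multiply, Matrix.fromBlocks_multiply] at h
  have h1 := congrFun (congrFun h (Sum.inl 0)) (Sum.inl 0)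
  simp at h1
  exact h2 h1

end Four

/-- The common part of the types `B`, `C`, `D`. -/
theorem exists_le [hp : Fact p.Prime] (s : Sit p n t S) {q c A m : ℕ} (hq1 : 1 ≤ q) (hpq : ¬ p ∣ q) (hc : ¬ p ∣ c)
    (h : c * Nat.card S = A * ∏ i ∈ Finset.range m, (q ^ (2 * (i + 1)) - 1)) : 2 * m < (n + 1) * (p - 1) := by
  have hp3 := s.p3
  have hq0 : ((q : ZMod p)) ^ 2 ≠ 0 := pow_ne_zero 2 (zmod_ne_zero hpq)
  have hodd : Odd p := hp.out.odd_of_ne_two (by omega)
  obtain ⟨h', hh⟩ := hodd
  obtain ⟨d, hd0, hd1⟩ : ∃ d, d = (p - 1) / 2 ∧ ((q : ZMod p) ^ 2) ^ d = 1 := by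
    refine ⟨(p - 1) / 2, rfl, ?_⟩
    rw [← pow_mul]
    have h2 : 2 * ((p - 1) / 2) = p - 1 := by omega
    rw [h2]
    exact ZMod.pow_card_sub_one_eq_one (zmod_ne_zero hpq)
  have hdpos : 0 < d := by omega
  have h1 : p ^ (m / d) ∣ ∏ i ∈ Finset.range m, (q ^ (2 * (i + 1)) - 1) := by
    refine pow_dvd_prod (d := d) (fun j => q ^ (2 * j) - 1) (fun k _ => ?_) m
    apply dvd_sub_one_of_pow hq1
    rw [← mul_assoc, mul_comm 2 d, mul_assoc, mul_comm, mul_assoc, pow_mul, mul_comm k d, pow_mul, hd1, one_pow]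
  have h2 : p ^ (m / d) ∣ c * Nat.card S := by
    rw [h]
    exact h1.mul_left _
  have h3 : p ^ (m / d) ∣ Nat.card S := by
    have hc : (p ^ (m / d)).Coprime c := Nat.Coprime.pow_left _ ((Nat.Prime.coprime_iff_not_dvd hp.out).2 hc)
    exact hc.dvd_of_dvd_mul_left h2
  have h4 := s.le_of_dvd h3
  have h6 : m < (n + 1) * d := (Nat.div_lt_iff_lt_mul hdpos).1 (by omega)
  have h7 : (n + 1) * d * 2 = (n + 1) * (p - 1) := by
    rw [mul_assoc]
    congr 1
    omega
  omega

/-- Defining characteristic, types `B` and `C`. -/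
theorem bc_defining [hp : Fact p.Prime] (s : Sit p n t S) {F : Type*} [Field F] [Fintype F] {c m : ℕ} (hm : 2 ≤ m)
    (hpF : p ∣ Fintype.card F) (hc : ¬ p ∣ c)
    (h : c * Nat.card S = Fintype.card F ^ (m ^ 2) * ∏ i ∈ Finset.range m, (Fintype.card F ^ (2 * (i + 1)) - 1)) :
    m = 2 := by
  obtain ⟨f, hf1, hf, hF⟩ := exists_card hpF
  set q := Fintype.card F
  have hq1 : 1 < q := Fintype.one_lt_card
  have hB : ¬ p ∣ ∏ i ∈ Finset.range m, (q ^ (2 * (i + 1)) - 1) := by
    rw [Prime.dvd_finsetProd_iff hp.out.prime]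
    rintro ⟨i, -, h⟩
    exact not_dvd_sub hp.out hpF hq1.le (by omega) h
  have h0 : c * Nat.card S = p ^ (f * m ^ 2) * ∏ i ∈ Finset.range m, (q ^ (2 * (i + 1)) - 1) := by
    rw [h]
    congr 1
    rw [hf, ← pow_mul]
  have hn := s.eq_of_card h0 hc hB
  obtain ⟨r, hr, h1, h2, h3⟩ := s.exists_prime h0 dvd_rfl s.n3
  rw [Prime.dvd_finsetProd_iff hr.prime] at h1
  obtain ⟨i, hi, h4⟩ := h1
  rw [Finset.mem_range] at hi
  rw [hf, ← pow_mul, h2, hn] at h4
  have h5 : m ^ 2 ∣ 2 * (i + 1) := Nat.dvd_of_mul_dvd_mul_left (by omega) h4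
  have h6 := Nat.le_of_dvd (by omega) h5
  have h7 : m ≤ 2 := by
    by_contra h8
    have h9 : m * 3 ≤ m * m := Nat.mul_le_mul_left _ (by omega)
    rw [pow_two] at h6
    omega
  omega

/-- Defining characteristic, type `D`. -/
theorem d_defining [hp : Fact p.Prime] (s : Sit p n t S) {F : Type*} [Field F] [Fintype F] {c m B : ℕ} (hm : 4 ≤ m)
    (hpF : p ∣ Fintype.card F) (hc : ¬ p ∣ c) (hB : ¬ p ∣ B)
    (hBr : ∀ r : ℕ, r.Prime → r ∣ B → r ∣ Fintype.card F ^ m - 1 ∨ r ∣ Fintype.card F ^ m + 1 ∨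
      ∃ i < m - 1, r ∣ Fintype.card F ^ (2 * (i + 1)) - 1)
    (h : c * Nat.card S = Fintype.card F ^ (m * (m - 1)) * B) : False := by
  obtain ⟨f, hf1, hf, hF⟩ := exists_card hpF
  have h0 : c * Nat.card S = p ^ (f * (m * (m - 1))) * B := by
    rw [h]
    congr 1
    rw [hf, ← pow_mul]
  have hn := s.eq_of_card h0 hc hB
  obtain ⟨r, hr, h1, h2, h3⟩ := s.exists_prime h0 dvd_rfl s.n3
  have h9 : m * 3 ≤ m * (m - 1) := Nat.mul_le_mul_left _ (by omega)
  rcases hBr r hr h1 with h4 | h4 | ⟨i, hi, h4⟩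
  · rw [hf, ← pow_mul, h2, hn] at h4
    have h5 := Nat.le_of_dvd (by omega) (Nat.dvd_of_mul_dvd_mul_left (by omega) h4)
    omega
  · rw [hf, ← pow_mul] at h4
    have h5 := (h3 _ h4).1
    rw [hn] at h5
    have e1 : 2 * (f * m) = f * (2 * m) := by ring
    rw [e1] at h5
    have h5 := Nat.le_of_dvd (by omega) (Nat.dvd_of_mul_dvd_mul_left (by omega) h5)
    omega
  · rw [hf, ← pow_mul, h2, hn] at h4
    have h5 := Nat.le_of_dvd (by omega) (Nat.dvd_of_mul_dvd_mul_left (by omega) h4)
    omega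

theorem sp_four [hp : Fact p.Prime] (s : Sit p n t S) {F : Type*} [Field F] [CharP F p] (e : S ≃* PSp 2 F) : False := by
  have hp3 := s.p3
  have h2 : (2 : F) ≠ 0 := by
    intro h0
    have h1 : p ∣ 2 := (CharP.cast_eq_zero_iff F p 2).1 (by exact_mod_cast h0)
    have := Nat.le_of_dvd (by norm_num) h1
    omega
  let π : Matrix.symplecticGroup (Fin 2) F →* S :=
    e.symm.toMonoidHom.comp (QuotientGroup.mk' (center (Matrix.symplecticGroup (Fin 2) F)))
  have hπ1 : ∀ g, π g = 1 → g ∈ center (Matrix.symplecticGroup (Fin 2) F) := by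
    intro g hg
    have h1 : e.symm (QuotientGroup.mk' _ g) = e.symm 1 := by
      rw [map_one]
      exact hg
    have h2 := e.symm.injective h1
    exact (QuotientGroup.eq_one_iff g).1 h2
  let x : Matrix.symplecticGroup (Fin 2) F := ⟨xM F, xM_mem⟩
  let y : Matrix.symplecticGroup (Fin 2) F := ⟨yM F 0 1 0, yM_mem _ _ _⟩
  let z : Matrix.symplecticGroup (Fin 2) F := ⟨yM F 2 0 0, yM_mem _ _ _⟩
  let w : Matrix.symplecticGroup (Fin 2) F := ⟨wM F, wM_mem⟩
  have hx : x ^ p = 1 := Subtype.ext (xM_pow (by omega))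
  have hy : y ^ p = 1 := Subtype.ext (yM_pow (by omega) _ _ _)
  have hzx : z * x = x * z := Subtype.ext zx_eq
  have hzy : z * y = y * z := Subtype.ext zy_eq
  have hxy : x * y = z * (y * x) := Subtype.ext xy_eq
  refine heis_false s.h.comm (x := π x) (y := π y) (z := π z) ?_ ?_ ?_ ?_ ?_ ?_
  · rw [← map_pow, hx, map_one]
  · rw [← map_pow, hy, map_one]
  · rw [← map_mul, ← map_mul, hzx]
  · rw [← map_mul, ← map_mul, hzy]
  · rw [← map_mul, ← map_mul, ← map_mul, hxy]
  · intro h0
    have h1 := Subgroup.mem_center_iff.1 (hπ1 z h0) w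
    exact zw_ne h2 (congrArg Subtype.val h1).symm

theorem psp_false [hp : Fact p.Prime] (s : Sit p n t S) {F : Type*} [Field F] [Fintype F] {m : ℕ} (hm : 2 ≤ m)
    (e : S ≃* PSp m F) : False := by
  classical
  set q := Fintype.card F with hq
  have hq1 : 1 < q := Fintype.one_lt_card
  have hp3 := s.p3
  have hc : ¬ p ∣ Nat.gcd 2 (q - 1) := by
    intro h
    have := Nat.le_of_dvd (by norm_num) (h.trans (Nat.gcd_dvd_left _ _))
    omega
  have hcard : Nat.gcd 2 (q - 1) * Nat.card S = q ^ (m ^ 2) * ∏ i ∈ Finset.range m, (q ^ (2 * (i + 1)) - 1) := by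
    rw [← S0245.result hq.symm m, ← S0246.result hq.symm m (by omega), Nat.card_congr e.toEquiv,
      Subgroup.card_eq_card_quotient_mul_card_subgroup (center (Matrix.symplecticGroup (Fin m) F)), mul_comm]
  by_cases hpF : p ∣ q
  · obtain rfl := bc_defining s hm hpF hc hcard
    obtain ⟨f, -, -, hF⟩ := exists_card hpF
    exact sp_four s e
  · have h1 := exists_le s hq1.le hpF hc hcard
    let ρ : Matrix.symplecticGroup (Fin m) F →* Matrix (Fin m ⊕ Fin m) (Fin m ⊕ Fin m) F :=
      (Matrix.symplecticGroup (Fin m) F).subtype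
    have hρ : Function.Injective ρ := fun a b hab => Subtype.ext hab
    have h2 : ¬ p ∣ Nat.card (center (Matrix.symplecticGroup (Fin m) F)) := by
      rw [S0246.result hq.symm m (by omega)]
      exact hc
    have h3 := le_card_of_center s.dat e h2 (natCast_ne_zero hpF) ρ hρ
    rw [Fintype.card_sum, Fintype.card_fin] at h3
    have h4 := s.lt_t (m := m + m) (by omega)
    omega

/-- Orthogonal groups in cross characteristic. -/
theorem omega_false [hp : Fact p.Prime] (s : Sit p n t S) {F : Type*} [Field F] [Fintype F] {ι : Type} [Fintype ι]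
    [DecidableEq ι] (Q : QuadraticForm F (ι → F)) (hQ : (polarBilin Q).Nondegenerate) (hn : 3 ≤ Fintype.card ι)
    (hs : ∃ u : ι → F, u ≠ 0 ∧ Q u = 0) (hpF : ¬ p ∣ Fintype.card F) (e : S ≃* POmega F (⇑Q))
    (hle : Fintype.card ι ≤ (n + 1) * (p - 1) + 2) : False := by
  classical
  have hp3 := s.p3
  let ρ : Omega F (⇑Q) →* Matrix ι ι F :=
    (Units.coeHom (Matrix ι ι F)).comp ((isometryGroup F (⇑Q)).subtype.comp (Omega F (⇑Q)).subtype)
  have hρ : Function.Injective ρ := fun a b hab => Subtype.ext (Subtype.ext (Units.ext hab))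
  have h2 : ¬ p ∣ 2 := fun h => by
    have := Nat.le_of_dvd (by norm_num) h
    omega
  refine s.cross e h2 (fun z hz => ?_) (natCast_ne_zero hpF) ρ hρ hle
  apply hρ
  rw [map_pow, map_one]
  rcases (Cfsg.Agent.LieClassical.OrthCenter.mem_center_omega_iff hQ hn hs z).1 hz with h | h
  · have h' : ρ z = 1 := h
    rw [h', one_pow]
  · have h' : ρ z = -1 := h
    rw [h', neg_one_sq]

theorem oodd_false [hp : Fact p.Prime] (s : Sit p n t S) {F : Type*} [Field F] [Fintype F] {m : ℕ} (hm : 3 ≤ m)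
    (ho : Odd (Fintype.card F)) (e : S ≃* POmega F (quadFormOdd m F)) : False := by
  classical
  set q := Fintype.card F with hq
  have hq1 : 1 < q := Fintype.one_lt_card
  have hp3 := s.p3
  have hc : ¬ p ∣ 2 := by
    intro h
    have := Nat.le_of_dvd (by norm_num) h
    omega
  have hcard := S0292.result hq.symm ho m hm
  rw [← Nat.card_congr e.toEquiv] at hcard
  by_cases hpF : p ∣ q
  · have := bc_defining s (by omega) hpF hc hcard
    omega
  · have h1 := exists_le s hq1.le hpF hc hcard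
    have h2 : (2 : F) ≠ 0 := by
      intro h
      have h' : (ringChar F) = 2 := by
        have hd : ringChar F ∣ 2 := (ringChar.spec F 2).1 (by exact_mod_cast h)
        rcases (Nat.dvd_prime Nat.prime_two).1 hd with h1 | h1
        · exact absurd h1 (CharP.ringChar_ne_one)
        · exact h1
      have heven := FiniteField.even_card_of_char_two h'
      have := Nat.odd_iff.1 ho
      omega
    rw [← coe_oddForm] at e
    have h3 : Fintype.card (Unit ⊕ (Fin m ⊕ Fin m)) = 2 * m + 1 := by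
      simp only [_root_.Fintype.card_sum, _root_.Fintype.card_unique, _root_.Fintype.card_fin]
      ring
    exact omega_false s (oddForm m F) (S0292.oddForm_nondegenerate h2 m) (by omega) (S0292.exists_singular (by omega))
      hpF e (by omega)

theorem oplus_false [hp : Fact p.Prime] (s : Sit p n t S) {F : Type*} [Field F] [Fintype F] {m : ℕ} (hm : 4 ≤ m)
    (e : S ≃* POmega F (quadFormPlus m F)) : False := by
  classical
  set q := Fintype.card F with hq
  have hq1 : 1 < q := Fintype.one_lt_card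
  have hp3 := s.p3
  have hcard := S0293.result hq.symm m hm
  rw [← Nat.card_congr e.toEquiv] at hcard
  by_cases hpF : p ∣ q
  · rw [mul_assoc] at hcard
    refine d_defining s hm hpF (gcd_four hp3) ?_ (fun r hr h => ?_) hcard
    swap
    · rcases hr.dvd_mul.1 h with h | h
      · exact Or.inl h
      · rw [Prime.dvd_finsetProd_iff hr.prime] at h
        obtain ⟨i, hi, h⟩ := h
        exact Or.inr (Or.inr ⟨i, Finset.mem_range.1 hi, h⟩)
    intro h
    rcases (Nat.Prime.dvd_mul hp.out).1 h with h | h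
    · exact not_dvd_sub hp.out hpF hq1.le (by omega) h
    · rw [Prime.dvd_finsetProd_iff hp.out.prime] at h
      obtain ⟨i, -, h⟩ := h
      exact not_dvd_sub hp.out hpF hq1.le (by omega) h
  · have h1 := exists_le s hq1.le hpF (gcd_four hp3) hcard
    rw [← coe_quadPlus] at e
    have h3 : Fintype.card (Fin m ⊕ Fin m) = 2 * m := by
      simp only [_root_.Fintype.card_sum, _root_.Fintype.card_fin]
      ring
    exact omega_false s (quadPlus m F) quadPlus_nondegenerate (by omega) (quadPlus_isotropic (by omega))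
      hpF e (by omega)

theorem ominus_false [hp : Fact p.Prime] (s : Sit p n t S) {F : Type*} [Field F] [Fintype F] {m : ℕ} (hm : 4 ≤ m)
    {a b : F} (hab : ∀ z₁ z₂ : F, z₁ ^ 2 + a * z₁ * z₂ + b * z₂ ^ 2 = 0 → z₁ = 0 ∧ z₂ = 0)
    (e : S ≃* POmega F (quadFormMinus (m - 1) F a b)) : False := by
  classical
  set q := Fintype.card F with hq
  have hq1 : 1 < q := Fintype.one_lt_card
  have hp3 := s.p3
  have hcard := S0294.result hq.symm m hm a b hab
  rw [← Nat.card_congr e.toEquiv] at hcard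
  by_cases hpF : p ∣ q
  · rw [mul_assoc] at hcard
    refine d_defining s hm hpF (gcd_four hp3) ?_ (fun r hr h => ?_) hcard
    swap
    · rcases hr.dvd_mul.1 h with h | h
      · exact Or.inr (Or.inl h)
      · rw [Prime.dvd_finsetProd_iff hr.prime] at h
        obtain ⟨i, hi, h⟩ := h
        exact Or.inr (Or.inr ⟨i, Finset.mem_range.1 hi, h⟩)
    intro h
    rcases (Nat.Prime.dvd_mul hp.out).1 h with h | h
    · exact not_dvd_add_one hp.out hpF (by omega) h
    · rw [Prime.dvd_finsetProd_iff hp.out.prime] at h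
      obtain ⟨i, -, h⟩ := h
      exact not_dvd_sub hp.out hpF hq1.le (by omega) h
  · have h1 := exists_le s hq1.le hpF (gcd_four hp3) hcard
    rw [← coe_quadMinus] at e
    have h3 : Fintype.card ((Fin (m - 1) ⊕ Fin (m - 1)) ⊕ Fin 2) = 2 * m := by
      simp only [Fintype.card_sum, Fintype.card_fin]; omega
    exact omega_false s (quadMinus (m - 1) F a b) (quadMinus_nondegenerate hab) (by omega)
      (quadMinus_isotropic (by omega) a b) hpF e (by omega)

end Cfsg.Agent.H248.OC
end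

-- part: H248/OC/PSLTwo
section
/-!
# One class of nontrivial `p`-elements: `PSL_2(F)` in characteristic `p`
-/

set_option autoImplicit false

open Cfsg Subgroup

namespace Cfsg.Agent.H248.OC

open Cfsg.Agent.H634.HypS Cfsg.Agent.H248.OC.Dim Cfsg.Agent.H634.Num

variable {p n t : ℕ} {S : Type*} [Group S]

/-- transvections -/
def upm {F : Type*} [Field F] (a : F) : Matrix.SpecialLinearGroup (Fin 2) F := ⟨!![1, a; 0, 1], by simp [Matrix.det_fin_two_of]⟩

theorem upm_mul {F : Type*} [Field F] (a b : F) : upm a * upm b = upm (a + b) := by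
  apply Subtype.ext
  rw [Matrix.SpecialLinearGroup.coe_mul]
  change (!![1, a; 0, 1] * !![1, b; 0, 1] : Matrix (Fin 2) (Fin 2) F) = !![1, a + b; 0, 1]
  rw [Matrix.mul_fin_two]
  simp [add_comm]

theorem upm_zero {F : Type*} [Field F] : upm (0 : F) = 1 := by
  apply Subtype.ext
  change (!![1, 0; 0, 1] : Matrix (Fin 2) (Fin 2) F) = 1
  rw [Matrix.one_fin_two]

theorem upm_pow {F : Type*} [Field F] (a : F) (k : ℕ) : upm a ^ k = upm ((k : F) * a) := by
  induction k with
  | zero => rw [pow_zero, Nat.cast_zero, zero_mul, upm_zero]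
  | succ k ih => rw [pow_succ, ih, upm_mul]; congr 1; push_cast; ring

theorem psl_two_false [hp : Fact p.Prime] (h : HypC p n S) (hp3 : 3 ≤ p) {F : Type*} [Field F] [Fintype F] [CharP F p]
    (e : S ≃* Matrix.ProjectiveSpecialLinearGroup (Fin 2) F) : False := by
  classical
  have h2 : (2 : F) ≠ 0 := by
    intro h0
    have h1 : p ∣ 2 := (CharP.cast_eq_zero_iff F p 2).1 (by exact_mod_cast h0)
    have := Nat.le_of_dvd (by norm_num) h1
    omega
  have hchar : ringChar F ≠ 2 := by
    intro h0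
    have h1 := (ringChar.spec F 2).2 (by rw [h0])
    exact h2 (by exact_mod_cast h1)
  obtain ⟨a, ha⟩ := FiniteField.exists_nonsquare hchar
  have ha0 : a ≠ 0 := fun h0 => ha (by rw [h0]; exact IsSquare.zero)
  let π : Matrix.SpecialLinearGroup (Fin 2) F →* S :=
    e.symm.toMonoidHom.comp (QuotientGroup.mk' (center (Matrix.SpecialLinearGroup (Fin 2) F)))
  have hπ1 : ∀ g, π g = 1 → g ∈ center (Matrix.SpecialLinearGroup (Fin 2) F) := by
    intro g hg
    have h1 : e.symm (QuotientGroup.mk' _ g) = e.symm 1 := by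
      rw [map_one]
      exact hg
    have h2 := e.symm.injective h1
    exact (QuotientGroup.eq_one_iff g).1 h2
  have hπs : Function.Surjective π := e.symm.surjective.comp (QuotientGroup.mk'_surjective _)
  have hpw : ∀ b : F, PEl p (π (upm b)) := by
    intro b
    apply PEl.of_pow
    rw [← map_pow, upm_pow, CharP.cast_eq_zero, zero_mul, upm_zero, map_one]
  have hne : ∀ b : F, b ≠ 0 → π (upm b) ≠ 1 := by
    intro b hb h0
    obtain ⟨r, -, hr⟩ := Matrix.SpecialLinearGroup.mem_center_iff.1 (hπ1 _ h0)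
    have h1 := congrFun (congrFun hr 0) 1
    change (Matrix.scalar (Fin 2) r) 0 1 = b at h1
    rw [Matrix.scalar_apply, Matrix.diagonal_apply_ne _ (by decide)] at h1
    exact hb h1.symm
  obtain ⟨c, hc⟩ := isConj_iff.1 (h.one _ _ (hpw 1) (hne 1 one_ne_zero) (hpw a) (hne a ha0))
  obtain ⟨g, rfl⟩ := hπs c
  have h3 : (upm a)⁻¹ * (g * upm 1 * g⁻¹) ∈ center (Matrix.SpecialLinearGroup (Fin 2) F) := by
    apply hπ1
    rw [map_mul, map_mul, map_mul, map_inv, map_inv, hc, inv_mul_cancel]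
  obtain ⟨r, hr2, hr⟩ := Matrix.SpecialLinearGroup.mem_center_iff.1 h3
  rw [Fintype.card_fin] at hr2
  have h4 : (upm a).1 * Matrix.scalar (Fin 2) r * g.1 = g.1 * (upm (1 : F)).1 := by
    have h5 : upm a * ((upm a)⁻¹ * (g * upm 1 * g⁻¹)) * g = g * upm 1 := by
      rw [mul_inv_cancel_left, inv_mul_cancel_right]
    rw [hr, ← Matrix.SpecialLinearGroup.coe_mul, ← Matrix.SpecialLinearGroup.coe_mul, ← Matrix.SpecialLinearGroup.coe_mul,
      h5]
  have hdet := g.2
  rw [Matrix.det_fin_two] at hdet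
  have e00 := congrFun (congrFun h4 0) 0
  have e01 := congrFun (congrFun h4 0) 1
  have e10 := congrFun (congrFun h4 1) 0
  have e11 := congrFun (congrFun h4 1) 1
  simp only [upm, Matrix.mul_apply, Fin.sum_univ_two, _root_.Matrix.scalar_apply, _root_.Matrix.cons_mul, _root_.Nat.succ_eq_add_one, _root_.Nat.reduceAdd, _root_.Matrix.vecMul_diagonal_const, _root_.Matrix.smul_cons, _root_.MulOpposite.smul_eq_mul_unop, _root_.MulOpposite.unop_op, _root_.one_mul, _root_.Matrix.smul_empty, _root_.smul_zero, _root_.Matrix.empty_mul, _root_.Equiv.symm_apply_apply, _root_.Fin.isValue, _root_.Matrix.of_apply, _root_.Matrix.cons_val', _root_.Matrix.cons_val_fin_one, _root_.Matrix.cons_val_zero, _root_.Matrix.cons_val_one, _root_.mul_one, _root_.MulZeroClass.mul_zero, _root_.add_zero, _root_.MulZeroClass.zero_mul, _root_.zero_add] at e00 e01 e10 e11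
  set x := g.1 0 0
  set y := g.1 0 1
  set z := g.1 1 0
  set w := g.1 1 1
  have hr1 : r = 1 ∨ r = -1 := by
    have : (r - 1) * (r + 1) = 0 := by linear_combination hr2
    rcases mul_eq_zero.1 this with h | h
    · exact Or.inl (sub_eq_zero.1 h)
    · exact Or.inr (eq_neg_of_add_eq_zero_left h)
  rcases hr1 with rfl | rfl
  · have hz : z = 0 := by linear_combination -e11
    have hx : x = a * w := by linear_combination -e01
    apply ha
    have hw : a * w ^ 2 = 1 := by
      rw [hz, hx] at hdet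
      linear_combination hdet
    have hw0 : w ≠ 0 := by
      rintro h0
      rw [h0] at hw
      simp at hw
    exact ⟨w⁻¹, by field_simp; linear_combination hw⟩
  · have hz : z = 0 := by
      have : 2 * z = 0 := by linear_combination -e10
      exact (mul_eq_zero.1 this).resolve_left h2
    have hw : w = 0 := by
      have : 2 * w = 0 := by linear_combination -e11 - hz
      exact (mul_eq_zero.1 this).resolve_left h2
    rw [hz, hw] at hdet
    simp at hdet

end Cfsg.Agent.H248.OC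
end

-- part: H248/OneClass
section
/-!
# Known simple groups with one class of nontrivial `p`-elements and abelian Sylow `p`-subgroups of rank at least three

`one_class_known` : `p = 3` and the group is the O'Nan group.
-/

set_option autoImplicit false

open Cfsg Subgroup

namespace Cfsg.Agent.H248.OneClass

open Cfsg.Agent.H248.OC Cfsg.Agent.OrdDiv Cfsg.Agent.H634.Fus
open Cfsg.Agent.H634.El (exists_card)

universe u

theorem one_class_known (T0 : OrderTable.{0}) (T : OrderTable.{u}) {S : Type u} [Group S] [Finite S]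
    [IsSimpleGroup S] (hk : IsKnownSimple' S) (hna : ¬ ∀ a b : S, a * b = b * a) {p n : ℕ}
    [hp : Fact p.Prime] (hp2 : p ≠ 2) (hn : 3 ≤ n) (hC : OneClass p S)
    (hcomm : ∀ Q : Subgroup S, IsPGroup p Q → ∀ a ∈ Q, ∀ b ∈ Q, a * b = b * a)
    (hcard : ∀ P : Sylow p S, Nat.card P = p ^ n) : p = 3 ∧ n = 4 ∧ Cfsg.Spor.IsoON S := by
  have s := exists_sit hp2 hn hC hcomm hcard
  have key : ∀ (g : Grp), g ∈ spor.map (fun x => x.1) → Real g S → p = 3 ∧ n = 4 ∧ Cfsg.Spor.IsoON S := fun g hg hr => by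
    obtain ⟨x, hx, rfl⟩ := List.mem_map.1 hg
    exact spor_known s hx hr (T.spor S x hx hr)
  rcases hk with h | h | h | h | h | h | h | h | h | h
  · exfalso
    have : Fact (Nat.card S).Prime := ⟨h⟩
    have : IsCyclic S := isCyclic_of_prime_card (p := Nat.card S) rfl
    exact hna fun a b => (IsCyclic.isMulCommutative (α := S)).is_comm.comm a b
  · obtain ⟨m, hm, ⟨e⟩⟩ := h
    exact (alt_false s.h hp2 hn e).elim
  · obtain ⟨F, _, _, m, hm, hm2, ⟨e⟩⟩ := h
    exfalso
    by_cases hpF : p ∣ Fintype.card F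
    · obtain ⟨rfl, hF⟩ := psl_defining s hm hpF e
      obtain ⟨f, -, -, hF⟩ := exists_card hpF
      exact psl_two_false s.h s.p3 e
    · exact psl_cross s hm hpF e
  · obtain ⟨F, _, _, m, hm, hm2, ⟨e⟩⟩ := h
    exact (psp_false s hm e).elim
  · obtain ⟨F, _, _, m, q, hF, hm, hm2, ⟨e⟩⟩ := h
    by_cases hpF : p ∣ q
    · exact (psu_defining s hm hF hpF e).elim
    · exact (psu_cross s hm hF hpF e).elim
  · obtain ⟨F, _, _, m, hm, ho, ⟨e⟩⟩ := h
    exact (oodd_false s hm ho e).elim
  · obtain ⟨F, _, _, m, hm, ⟨e⟩⟩ := h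
    exact (oplus_false s hm e).elim
  · obtain ⟨F, _, _, m, a, b, hm, hab, ⟨e⟩⟩ := h
    exact (ominus_false s hm hab e).elim
  · rcases h with h | h | h | h | h | h | h | h | h | h | h
    · obtain ⟨F, _, _, hq, ⟨e⟩⟩ := h
      exact (g2_false s e).elim
    · obtain ⟨F, _, _, ⟨e⟩⟩ := h
      exact (f4_false T0 s e).elim
    · obtain ⟨F, _, _, ⟨e⟩⟩ := h
      exact (e6_false T0 s e).elim
    · obtain ⟨F, _, _, ⟨e⟩⟩ := h
      exact (e7_false T0 s e).elim
    · obtain ⟨F, _, _, ⟨e⟩⟩ := h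
      exact (e8_false T0 s e).elim
    · obtain ⟨F, _, _, q, hq, hF, ⟨e⟩⟩ := h
      exact (te6_false T0 s hq hF e).elim
    · obtain ⟨F, _, _, q, hq, hF, ⟨e⟩⟩ := h
      exact (td4_false T0 s hq hF e).elim
    · obtain ⟨F, _, _, m, hm, hF, ⟨e⟩⟩ := h
      exact (sz_false s hF e).elim
    · obtain ⟨F, _, _, m, hm, hF, ⟨e⟩⟩ := h
      exact (ree_false T0 s hm hF e).elim
    · obtain ⟨F, _, _, m, hm, hF, ⟨e⟩⟩ := h
      exact (tf4_false s hF e).elim
    · exact key .tits (by decide) h
  · rcases h with h | h | h | h | h | h | h | h | h | h | h | h | h | h | h | h | h | h | h | h | h | h | h | h | h | h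
    · exact key .m11 (by decide) h
    · exact key .m12 (by decide) h
    · exact key .m22 (by decide) h
    · exact key .m23 (by decide) h
    · exact key .m24 (by decide) h
    · exact key .j1 (by decide) h
    · exact key .j2 (by decide) h
    · exact key .j3 (by decide) h
    · exact key .j4 (by decide) h
    · exact key .co1 (by decide) h
    · exact key .co2 (by decide) h
    · exact key .co3 (by decide) h
    · exact key .mcl (by decide) h
    · exact key .hs (by decide) h
    · exact key .suz (by decide) h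
    · exact key .he (by decide) h
    · exact key .ru (by decide) h
    · exact key .on (by decide) h
    · exact key .ly (by decide) h
    · exact key .fi22 (by decide) h
    · exact key .fi23 (by decide) h
    · exact key .fi24 (by decide) h
    · exact key .hn (by decide) h
    · exact key .th (by decide) h
    · exact key .b (by decide) h
    · exact key .m (by decide) h

end Cfsg.Agent.H248.OneClass
end

private theorem dce_e22cdef49c21 : _root_.True := by
  try have : _root_.True := by simp only [_root_.Cfsg.Agent.H248.OC.xM.eq_1]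
  try have : _root_.True := by simp only [_root_.Cfsg.Agent.H248.OC.exc.eq_2]
  try have : _root_.True := by simp only [_root_.Cfsg.Agent.H248.OC.exc.eq_5]
  try have : _root_.True := by simp only [_root_.Cfsg.Agent.H248.OC.ok.eq_1]
  try have : _root_.True := by simp only [_root_.Cfsg.Agent.H248.OC.exc.eq_6]
  try have : _root_.True := by simp only [_root_.Cfsg.Agent.H248.OC.exc.eq_8]
  try have : _root_.True := by simp only [_root_.Cfsg.Agent.H248.OC.exc.eq_4]
  try have : _root_.True := by simp only [_root_.Cfsg.Agent.H248.OC.wM.eq_1]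
  try have : _root_.True := by simp only [_root_.Cfsg.Agent.H248.OC.exc.eq_1]
  try have : _root_.True := by simp only [_root_.Cfsg.Agent.H248.OC.exc.eq_7]
  try have : _root_.True := by simp only [_root_.Cfsg.Agent.H248.OC.prs.eq_1]
  try have : _root_.True := by simp only [_root_.Cfsg.Agent.H248.OC.exc._sparseCasesOn_1.else_eq]
  try have : _root_.True := by simp only [_root_.Cfsg.Agent.H248.OC.upm.eq_1]
  try have : _root_.True := by simp only [_root_.Cfsg.Agent.H248.OC.exc.eq_3]
  try have : _root_.True := by simp only [_root_.Cfsg.Agent.H248.OC.yM.eq_1]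
  exact _root_.True.intro
end
end
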