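import Cfsg.Agent.H547.SelfCent.Base
import Cfsg.Agent.M22.KillACD
import Cfsg.Agent.M22.BDataOfBlocks
import Cfsg.Agent.Prune
set_option linter.all false
prune_inst 0x7f00000000000000000000000000000000000000000000000000000000000000000000000000000000000000000000000000000000000000000000000000000000000000000000000000000000000000003fffffffffffffffffffffffffffbeffbdffffffff
open scoped Cfsg.Agent.FastGrp

/-!
# Integral values at self-centralizing elements of prime order (helper792)
-/

set_option autoImplicit false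

namespace Cfsg.Agent.H792.OnThree

open Cfsg Subgroup
open Cfsg.Agent.Characters.Core

universe u

variable {G : Type u} [Group G]

/-- a natural number `≡ j` modulo `r` and prime to `|G|` -/
theorem exists_coprime {n r j : ℕ} (hr : r.Prime) (hd : r ∣ n) (hsq : ¬ r * r ∣ n) (hn : n ≠ 0) (hj : ¬ r ∣ j) :
    ∃ m : ℕ, m.Coprime n ∧ m ≡ j [MOD r] := by
  obtain ⟨k, rfl⟩ := hd
  have hk : ¬ r ∣ k := fun h => hsq (Nat.mul_dvd_mul_left r h)
  have hco : Nat.Coprime r k := (Nat.Prime.coprime_iff_not_dvd hr).2 hk
  obtain ⟨m, h1, h2⟩ := Nat.chineseRemainder hco j 1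
  refine ⟨m, Nat.Coprime.mul_right ?_ ?_, h1⟩
  · refine ((Nat.Prime.coprime_iff_not_dvd hr).2 fun h => hj ?_).symm
    exact (Nat.modEq_zero_iff_dvd.1 ((h1.symm.trans (Nat.modEq_zero_iff_dvd.2 h))))
  · have h3 := h2.gcd_eq
    rw [Nat.gcd_comm m k] at h3
    unfold Nat.Coprime
    rw [Nat.gcd_comm, h3, Nat.gcd_one_left]

theorem value [Finite G] {r : ℕ} [hr : Fact r.Prime] (hr2 : r ≠ 2) {x : G} (hx : orderOf x = r)
    (hc : Nat.card (centralizer ({x} : Set G)) = r) (hsq : ¬ r * r ∣ Nat.card G) {ψ : IrrCharacter G} {z : ℤ}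
    (hz : ∀ m : ℕ, m.Coprime (Nat.card G) → (ψ : G → ℂ) (x ^ m) = z) :
    (z = 0 ∨ z = 1 ∨ z = -1) ∧ (r : ℤ) ∣ (charDegree (ψ : G → ℂ) : ℤ) - z := by
  classical
  have hrd : r ∣ Nat.card G := hx ▸ orderOf_dvd_natCard x
  have hxp : IsPGroup r (zpowers x) := IsPGroup.of_card (n := 1) (by rw [Nat.card_zpowers, hx, pow_one])
  obtain ⟨P, hP⟩ := hxp.exists_le_sylow
  have hPc : Nat.card P = r := by
    rw [P.card_eq_multiplicity]
    have h1 : (Nat.card G).factorization r = 1 := by
      have h0 : Nat.card G ≠ 0 := Nat.card_pos.ne'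
      have h2 : 1 ≤ (Nat.card G).factorization r := (hr.out.pow_dvd_iff_le_factorization h0).1 (by rwa [pow_one])
      have h3 : ¬ 2 ≤ (Nat.card G).factorization r := fun h =>
        hsq (by rw [← pow_two]; exact (hr.out.pow_dvd_iff_le_factorization h0).2 h)
      omega
    rw [h1, pow_one]
  have hPx : (P : Subgroup G) = zpowers x := by
    symm
    exact Subgroup.eq_of_le_of_card_ge hP (by rw [Nat.card_zpowers, hx, hPc])
  have hCx : centralizer ((P : Subgroup G) : Set G) = centralizer ({x} : Set G) := by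
    rw [hPx]
    ext g
    constructor
    · intro hg
      exact mem_centralizer_singleton_iff.2 ((mem_centralizer_iff.1 hg x (mem_zpowers x)).symm)
    · intro hg
      rw [mem_centralizer_iff]
      rintro _ ⟨k, rfl⟩
      exact ((show Commute g x from mem_centralizer_singleton_iff.1 hg).zpow_right k).eq.symm
  have hC : centralizer ((P : Subgroup G) : Set G) = (P : Subgroup G) := by
    symm
    refine Subgroup.eq_of_le_of_card_ge ?_ ?_
    · rw [hCx, hPx, zpowers_le]
      exact mem_centralizer_singleton_iff.2 rfl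
    · rw [hCx, hc, hPc]
  obtain ⟨e, ⟨t, ht⟩, -, -, he, -⟩ := H547.SelfCent.arith hr.out hx hsq
  have hrel : (centralizer ((P : Subgroup G) : Set G)).relIndex (normalizer ((P : Subgroup G) : Set G)) = e := by
    have h1 : centralizer ((P : Subgroup G) : Set G) ≤ normalizer ((P : Subgroup G) : Set G) := by
      rw [hC]; exact le_normalizer
    have h2 := relIndex_mul_relIndex ⊥ _ _ bot_le h1
    rw [relIndex_bot_left, relIndex_bot_left, hCx, hc, hPx, he, hc] at h2
    rw [hCx, hPx]
    exact Nat.eq_of_mul_eq_mul_left hr.out.pos h2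
  have hval : ∀ y ∈ (P : Subgroup G), y ≠ 1 → (ψ : G → ℂ) y = z := by
    intro y hy hy1
    rw [hPx] at hy
    obtain ⟨j, hj⟩ := (mem_powers_iff_mem_zpowers (x := x) (y := y)).2 hy
    have hj' : x ^ j = y := hj
    have hrj : ¬ r ∣ j := by
      intro h
      apply hy1
      rw [← hj', ← orderOf_dvd_iff_pow_eq_one, hx]
      exact h
    obtain ⟨m, hm, hmj⟩ := exists_coprime hr.out hrd hsq Nat.card_pos.ne' hrj
    have h1 : x ^ m = x ^ j := pow_eq_pow_iff_modEq.2 (by rw [hx]; exact hmj)
    rw [← hj', ← h1, hz m hm]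
  have := Fintype.ofFinite P
  have hP1 : (1 : (P : Subgroup G)) ∈ (Finset.univ : Finset (P : Subgroup G)) := Finset.mem_univ _
  have hsum : ∀ f : ↥(P : Subgroup G) → ℂ, ∑ y : ↥(P : Subgroup G), f y = f 1 + ∑ y ∈ Finset.univ.erase (1 : (P : Subgroup G)), f y :=
    fun f => (Finset.add_sum_erase _ _ hP1).symm
  have hcard : ((Finset.univ.erase (1 : (P : Subgroup G))).card : ℂ) = r - 1 := by
    have h1 : Fintype.card (P : Subgroup G) = r := by rw [← Nat.card_eq_fintype_card]; exact hPc
    rw [Finset.card_erase_of_mem hP1, Finset.card_univ, h1, Nat.cast_sub hr.out.one_lt.le, Nat.cast_one]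
  have hconst : ∑ y ∈ Finset.univ.erase (1 : (P : Subgroup G)), (ψ : G → ℂ) (y : G) = (r - 1) * z := by
    rw [Finset.sum_congr rfl fun (y : (P : Subgroup G)) hy =>
      hval (y : G) y.2 fun h => (Finset.ne_of_mem_erase hy) (Subtype.ext h),
      Finset.sum_const, nsmul_eq_mul, hcard]
  constructor
  · obtain ⟨NE, X, ε, d, S, hdis, hNE, hX, hε, hd, -, hv, hexc, -, -, hrest⟩ :=
      Cfsg.Agent.SmallSimple.TheoremBCor.theoremB_selfCent r hr2 P hPc hC e t hrel ht.symm
    have hxP : x ∈ (P : Subgroup G) := by rw [hPx]; exact mem_zpowers x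
    have hx1 : x ≠ 1 := by
      rintro rfl
      rw [orderOf_one] at hx
      exact hr.out.one_lt.ne hx
    have hzx := hval x hxP hx1
    by_cases h1 : ψ ∈ NE
    · have h2 := hv ψ h1 x hxP hx1
      rw [hzx] at h2
      have h3 : z = ε ψ := by exact_mod_cast h2
      rcases hε ψ h1 with h | h
      · right; left; rw [h3, h]
      · right; right; rw [h3, h]
    by_cases h2 : ψ ∈ X
    · obtain ⟨hSc, hS1, hSv⟩ := hexc ψ h2
      have hl : ∀ l ∈ S ψ, ∑ y ∈ Finset.univ.erase (1 : (P : Subgroup G)), (((l y : ℂˣ) : ℂ)) = -1 := by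
        intro l hl
        have h3 : (∑ y : (P : Subgroup G), ((l y : ℂˣ) : ℂ)) = 0 := by
          have hne : (Units.coeHom ℂ).comp l ≠ 1 := by
            intro h
            apply hS1
            have : l = 1 := by
              ext y
              have := DFunLike.congr_fun h y
              simpa using this
            rwa [this] at hl
          exact sum_hom_units_eq_zero _ hne
        rw [hsum] at h3
        rw [map_one, Units.val_one] at h3
        linear_combination h3
      have h3 : ((r : ℂ) - 1) * z = d * (-e) := by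
        rw [← hconst, Finset.sum_congr rfl fun (y : ↥(P : Subgroup G)) hy => hSv y (Finset.ne_of_mem_erase hy), ← Finset.mul_sum,
          Finset.sum_comm, Finset.sum_congr rfl hl, Finset.sum_const, nsmul_eq_mul, hSc]
        ring
      have h4 : ((r : ℤ) - 1) * z = d * (-e) := by exact_mod_cast h3
      have h5 : ((r : ℤ) - 1) = e * t := by
        have := hr.out.one_lt
        have h6 : ((r - 1 : ℕ) : ℤ) = e * t := by exact_mod_cast ht
        rw [← h6]; omega
      have he0 : (e : ℤ) ≠ 0 := by
        intro h0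
        rw [h0, zero_mul] at h5
        have := hr.out.one_lt
        omega
      rw [h5] at h4
      have h6 : (t : ℤ) * z = -d := by
        apply mul_left_cancel₀ he0
        linear_combination h4
      have h7 : z ∣ 1 := by
        rcases hd with h | h
        · exact ⟨-t, by rw [h] at h6; linear_combination h6⟩
        · exact ⟨t, by rw [h] at h6; linear_combination -h6⟩
      rcases Int.isUnit_iff.1 (isUnit_of_dvd_one h7) with h | h
      · exact Or.inr (Or.inl h)
      · exact Or.inr (Or.inr h)
    · left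
      have h3 := (hrest ψ h1 h2).1 x hxP hx1
      rw [hzx] at h3
      exact_mod_cast h3
  · exact M22.BDataOfBlocks.dvd_of_const _ hPc ψ z hval

end Cfsg.Agent.H792.OnThree
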